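import Cfsg.Agent.H883.Sub
import Cfsg.Agent.ClassicalGeometry.WittQuad
import Cfsg.Agent.H884.SingMax
import Cfsg.Agent.FastGrp
import Cfsg.Agent.Prune
set_option linter.all false
prune_inst 0x7f00000000000000000000000000000000000000000000000000000000000000000000000000000000000000000000000000000000000000000000000000000000000000000000000000000000000000003fffffffffffffffffffffffffffbeffbdffffffff
open scoped Cfsg.Agent.FastGrp

/-!
# S2451 (C), orthogonal groups: transitivity of `E Q` (helper445)

* `exists_value_mem` : a subspace whose dimension exceeds the dimension of its radical by two represents all `c ≠ 0`;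
* `exists_E_family` : `E Q` is transitive on isometric families of `k` vectors, `2 k + 2 ≤ dim V`;
* `TS2`, `TS3` : totally singular pairs and triples, their existence;
* `scalar_of_fix` : a linear map which preserves all singular points is a scalar.
-/

set_option autoImplicit false
set_option linter.unusedSectionVars false

namespace Cfsg.Agent.H445.AH

open QuadraticMap Cfsg.Agent.LieClassical.OrthCore Cfsg.Agent.LieClassical.OrthTrans
  Cfsg.Agent.LieClassical.OrthFinite Cfsg.Agent.H883.Sub Module

variable {F V : Type*} [Field F] [AddCommGroup V] [Module F V] {Q : QuadraticForm F V}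

/-! ### Values -/

theorem finrank_inf_polar [FiniteDimensional F V] (Y : Submodule F V) (s : V) :
    finrank F Y ≤ finrank F ↥(Y ⊓ LinearMap.ker (polarBilin Q s)) + 1 := by
  have h1 := Submodule.finrank_sup_add_finrank_inf_eq Y (LinearMap.ker (polarBilin Q s))
  have h2 := LinearMap.finrank_range_add_finrank_ker (polarBilin Q s)
  have h3 : finrank F (LinearMap.range (polarBilin Q s)) ≤ 1 := by
    refine le_trans (Submodule.finrank_le _) ?_
    rw [finrank_self]
  have h4 : finrank F ↥(Y ⊔ LinearMap.ker (polarBilin Q s)) ≤ finrank F V := Submodule.finrank_le _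
  omega

theorem exists_nonsing_mem [FiniteDimensional F V] {Y : Submodule F V}
    (hY : finrank F ↥(Y ⊓ perp Q Y) < finrank F Y) : ∃ s ∈ Y, Q s ≠ 0 := by
  by_contra hcon
  push Not at hcon
  have h1 : Y ≤ perp Q Y := by
    rw [le_perp_iff]
    intro w hw w' hw'
    have h := Q_add (Q := Q) w w'
    rw [hcon _ (Y.add_mem hw hw'), hcon _ hw, hcon _ hw'] at h
    simpa using h.symm
  rw [inf_eq_left.2 h1] at hY
  exact lt_irrefl _ hY

/-- universality of the sum of two squares -/
theorem exists_two_squares [Finite F] (h2 : (2 : F) ≠ 0) {a b : F} (ha : a ≠ 0) (hb : b ≠ 0) (c : F) :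
    ∃ x y : F, a * (x * x) + b * (y * y) = c := by
  have := Fintype.ofFinite F
  have hodd : Fintype.card F % 2 = 1 := by
    refine FiniteField.odd_card_of_char_ne_two ?_
    intro h
    apply h2
    have : CharP F 2 := by rw [← h]; exact ringChar.charP F
    exact CharTwo.two_eq_zero
  obtain ⟨x, y, h⟩ := FiniteField.exists_root_sum_quadratic (R := F)
    (f := Polynomial.C a * Polynomial.X ^ 2 + Polynomial.C 0 * Polynomial.X + Polynomial.C (-c))
    (g := Polynomial.C b * Polynomial.X ^ 2 + Polynomial.C 0 * Polynomial.X + Polynomial.C 0)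
    (Polynomial.degree_quadratic ha) (Polynomial.degree_quadratic hb) hodd
  refine ⟨x, y, ?_⟩
  simp only [Polynomial.eval_add, Polynomial.eval_mul, Polynomial.eval_C, Polynomial.eval_pow,
    Polynomial.eval_X] at h
  linear_combination h

theorem exists_value_mem [Finite F] [FiniteDimensional F V] {Y : Submodule F V}
    (hY : finrank F ↥(Y ⊓ perp Q Y) + 2 ≤ finrank F Y) (c : F) (hc : c ≠ 0) : ∃ y ∈ Y, Q y = c := by
  obtain ⟨s, hs, hs0⟩ := exists_nonsing_mem (Q := Q) (Y := Y) (by omega)
  by_cases h2 : (2 : F) = 0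
  · -- characteristic two: square roots
    have hch : CharP F 2 := CharTwo.of_one_ne_zero_of_two_eq_zero one_ne_zero h2
    obtain ⟨r, hr⟩ : IsSquare (c * (Q s)⁻¹) := by
      have := Fintype.ofFinite F
      exact FiniteField.isSquare_of_char_two (ringChar.eq_iff.2 hch) _
    refine ⟨r • s, Y.smul_mem _ hs, ?_⟩
    rw [QuadraticMap.map_smul, smul_eq_mul, ← hr, mul_assoc, inv_mul_cancel₀ hs0, mul_one]
  · obtain ⟨t, ht, ht0⟩ : ∃ t ∈ Y ⊓ LinearMap.ker (polarBilin Q s), Q t ≠ 0 := by
      by_contra hcon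
      push Not at hcon
      set Z := Y ⊓ LinearMap.ker (polarBilin Q s) with hZ
      have h1 : Z ≤ Y ⊓ perp Q Y := by
        intro y hy
        refine ⟨hy.1, mem_perp'.2 fun w hw => ?_⟩
        have hss : polar Q s s ≠ 0 := by
          rw [polar_self']
          exact mul_ne_zero h2 hs0
        set w' := w - (polar Q s w * (polar Q s s)⁻¹) • s with hw'
        have hw'Z : w' ∈ Z := by
          refine ⟨Y.sub_mem hw (Y.smul_mem _ hs), ?_⟩
          rw [SetLike.mem_coe, LinearMap.mem_ker]
          show polar Q s w' = 0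
          rw [hw', polar_sub_right, polar_smul_right, smul_eq_mul, mul_assoc, inv_mul_cancel₀ hss, mul_one,
            sub_self]
        have hys : polar Q y s = 0 := by
          rw [polar_comm]
          exact hy.2
        have hyw' : polar Q y w' = 0 := by
          have h := Q_add (Q := Q) y w'
          rw [hcon _ (Z.add_mem hy hw'Z), hcon _ hy, hcon _ hw'Z] at h
          simpa using h.symm
        have e : w = w' + (polar Q s w * (polar Q s s)⁻¹) • s := by rw [hw']; module
        rw [e, polar_add_right, polar_smul_right, hyw', hys]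
        simp
      have h3 := Submodule.finrank_mono h1
      have h4 := finrank_inf_polar (Q := Q) Y s
      rw [← hZ] at h4
      omega
    obtain ⟨x, y, hxy⟩ := exists_two_squares h2 hs0 ht0 c
    refine ⟨x • s + y • t, Y.add_mem (Y.smul_mem _ hs) (Y.smul_mem _ ht.1), ?_⟩
    have hst : polar Q s t = 0 := ht.2
    rw [Q_add, QuadraticMap.map_smul, QuadraticMap.map_smul, polar_smul_left, polar_smul_right, hst]
    simp only [smul_eq_mul]
    linear_combination hxy

/-! ### Correction of isometries -/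

/-- **`O Q = E Q · R(Y)`** if `Y` represents all `c ≠ 0`. -/
theorem exists_correct_univ [FiniteDimensional F V] (hG : Good Q) {Y : Submodule F V}
    (hY : ∀ c : F, c ≠ 0 → ∃ y ∈ Y, Q y = c) {g : V ≃ₗ[F] V} (hg : g ∈ O Q) :
    ∃ r ∈ Subgroup.closure {s : V ≃ₗ[F] V | ∃ (v : V) (hv : Q v ≠ 0), v ∈ Y ∧ s = refl Q v hv},
      g * r ∈ E Q := by
  set R := Subgroup.closure {s : V ≃ₗ[F] V | ∃ (v : V) (hv : Q v ≠ 0), v ∈ Y ∧ s = refl Q v hv}
    with hR
  have hRO : R ≤ O Q := by
    rw [hR, Subgroup.closure_le]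
    rintro _ ⟨v, hv, -, rfl⟩
    exact refl_mem_O hv
  have key : ∀ g ∈ O Q, ∃ r ∈ R, r * g ∈ E Q := by
    intro g hg
    rw [O_eq_closure hG.nondeg] at hg
    induction hg using Subgroup.closure_induction with
    | mem s hs =>
      rcases hs with ⟨v, hv, rfl⟩ | ⟨u, w, hu, hw, rfl⟩
      · obtain ⟨y, hyY, hy⟩ := hY (Q v) hv
        have hv' : Q y ≠ 0 := by rw [hy]; exact hv
        refine ⟨refl Q _ hv', Subgroup.subset_closure ⟨_, hv', hyY, rfl⟩, ?_⟩
        exact hG.refl_mul_refl_mem hv hv' hy.symm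
      · exact ⟨1, R.one_mem, by rw [one_mul]; exact siegel_mem_E hu hw⟩
    | one => exact ⟨1, R.one_mem, by rw [one_mul]; exact Subgroup.one_mem _⟩
    | mul a b ha hb iha ihb =>
      obtain ⟨r, hr, hra⟩ := iha
      obtain ⟨s, hs, hsb⟩ := ihb
      refine ⟨s * r, R.mul_mem hs hr, ?_⟩
      have e : s * r * (a * b) = (s * (r * a) * s⁻¹) * (s * b) := by group
      rw [e]
      exact E_mul (conj_mem_E (hRO hs) hra) hsb
    | inv a ha iha =>
      obtain ⟨r, hr, hra⟩ := iha
      refine ⟨r⁻¹, R.inv_mem hr, ?_⟩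
      have e : r⁻¹ * a⁻¹ = r⁻¹ * (r * a)⁻¹ * r⁻¹⁻¹ := by group
      rw [e]
      exact conj_mem_E ((O Q).inv_mem (hRO hr)) ((E Q).inv_mem hra)
  obtain ⟨r, hr, hrg⟩ := key g hg
  refine ⟨r, hr, ?_⟩
  have e : g * r = r⁻¹ * (r * g) * r⁻¹⁻¹ := by group
  rw [e]
  exact conj_mem_E ((O Q).inv_mem (hRO hr)) hrg

/-- **Witt's lemma in `E Q`.** -/
theorem exists_E_family [Finite F] [FiniteDimensional F V] (hG : Good Q) {k : ℕ} (x y : Fin k → V)
    (hx : LinearIndependent F x) (hy : LinearIndependent F y) (hQ : ∀ i, Q (x i) = Q (y i))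
    (hB : ∀ i j, polar Q (x i) (x j) = polar Q (y i) (y j)) (hk : 2 * k + 2 ≤ finrank F V) :
    ∃ g ∈ E Q, ∀ i, g (x i) = y i := by
  obtain ⟨g, hg, hgx⟩ := ClassicalGeometry.WittQuad.extend_family Q (nondegenerate_of_nondeg hG.nondeg) k x y
    hx hy hQ hB
  set U := Submodule.span F (Set.range x) with hU
  have hUk : finrank F U = k := by
    rw [hU, finrank_span_eq_card hx, Fintype.card_fin]
  have hd := finrank_perp hG.nondeg U
  have hY : ∀ c : F, c ≠ 0 → ∃ y ∈ perp Q U, Q y = c := by
    refine exists_value_mem ?_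
    have h1 : finrank F ↥(perp Q U ⊓ perp Q (perp Q U)) ≤ finrank F U := by
      rw [perp_perp hG.nondeg]
      exact Submodule.finrank_mono inf_le_right
    omega
  obtain ⟨r, hr, hrE⟩ := exists_correct_univ hG hY (g := g) hg
  refine ⟨g * r, hrE, fun i => ?_⟩
  have h1 : r (x i) = x i := by
    refine refl_closure_fix hr fun y hy => ?_
    exact mem_perp'.1 hy _ (Submodule.subset_span ⟨i, rfl⟩)
  show g (r (x i)) = y i
  rw [h1, hgx]

/-! ### Totally singular pairs and triples -/

/-- `u`, `v` span a totally singular plane -/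
structure TS2 (Q : QuadraticForm F V) (u v : V) : Prop where
  ind : ∀ a b : F, a • u + b • v = 0 → a = 0 ∧ b = 0
  hu : Q u = 0
  hv : Q v = 0
  huv : polar Q u v = 0

/-- `u`, `v`, `w` span a totally singular 3-space -/
structure TS3 (Q : QuadraticForm F V) (u v w : V) : Prop where
  ind : ∀ a b c : F, a • u + b • v + c • w = 0 → a = 0 ∧ b = 0 ∧ c = 0
  hu : Q u = 0
  hv : Q v = 0
  hw : Q w = 0
  huv : polar Q u v = 0
  huw : polar Q u w = 0
  hvw : polar Q v w = 0

theorem TS2.swap {u v : V} (h : TS2 Q u v) : TS2 Q v u where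
  ind a b hab := (h.ind b a (by rw [add_comm]; exact hab)).symm
  hu := h.hv
  hv := h.hu
  huv := by rw [polar_comm]; exact h.huv

theorem TS2.add_right {u v : V} (h : TS2 Q u v) (c : F) : TS2 Q u (v + c • u) where
  ind a b hab := by
    have h1 : (a + b * c) • u + b • v = 0 := by rw [← hab]; module
    obtain ⟨h2, h3⟩ := h.ind _ _ h1
    rw [h3] at h2
    exact ⟨by simpa using h2, h3⟩
  hu := h.hu
  hv := by
    rw [Q_add, QuadraticMap.map_smul, polar_smul_right, h.hu, h.hv, polar_comm Q v u, h.huv]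
    simp
  huv := by rw [polar_add_right, polar_smul_right, h.huv, polar_self_of_sing h.hu]; simp

theorem TS2.smul_right {u v : V} (h : TS2 Q u v) {c : F} (hc : c ≠ 0) : TS2 Q u (c • v) where
  ind a b hab := by
    rw [smul_smul] at hab
    obtain ⟨h2, h3⟩ := h.ind _ _ hab
    exact ⟨h2, (mul_eq_zero.1 h3).resolve_right hc⟩
  hu := h.hu
  hv := by rw [QuadraticMap.map_smul, h.hv, smul_zero]
  huv := by rw [polar_smul_right, h.huv, smul_zero]

theorem TS2.ne_left {u v : V} (h : TS2 Q u v) : u ≠ 0 := by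
  rintro rfl
  exact one_ne_zero (h.ind 1 0 (by simp)).1

theorem TS2.ne_right {u v : V} (h : TS2 Q u v) : v ≠ 0 := h.swap.ne_left

theorem TS3.left {u v w : V} (h : TS3 Q u v w) : TS2 Q u v where
  ind a b hab := by
    have h1 := h.ind a b 0 (by rw [hab]; simp)
    exact ⟨h1.1, h1.2.1⟩
  hu := h.hu
  hv := h.hv
  huv := h.huv

theorem TS3.swap12 {u v w : V} (h : TS3 Q u v w) : TS3 Q v u w where
  ind a b c habc := by
    have h1 := h.ind b a c (by rw [← habc]; module)
    exact ⟨h1.2.1, h1.1, h1.2.2⟩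
  hu := h.hv
  hv := h.hu
  hw := h.hw
  huv := by rw [polar_comm]; exact h.huv
  huw := h.hvw
  hvw := h.huw

theorem TS3.swap23 {u v w : V} (h : TS3 Q u v w) : TS3 Q u w v where
  ind a b c habc := by
    have h1 := h.ind a c b (by rw [← habc]; module)
    exact ⟨h1.1, h1.2.2, h1.2.1⟩
  hu := h.hu
  hv := h.hw
  hw := h.hv
  huv := h.huw
  huw := h.huv
  hvw := by rw [polar_comm]; exact h.hvw

theorem TS3.right {u v w : V} (h : TS3 Q u v w) : TS2 Q v w := h.swap12.swap23.left

theorem TS3.outer {u v w : V} (h : TS3 Q u v w) : TS2 Q u w := h.swap23.left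

/-- change of the third vector -/
theorem TS3.add_third {u v w : V} (h : TS3 Q u v w) (c d : F) : TS3 Q u v (w + c • u + d • v) where
  ind a b e habc := by
    have h1 : (a + e * c) • u + (b + e * d) • v + e • w = 0 := by rw [← habc]; module
    obtain ⟨h2, h3, h4⟩ := h.ind _ _ _ h1
    rw [h4] at h2 h3
    exact ⟨by simpa using h2, by simpa using h3, h4⟩
  hu := h.hu
  hv := h.hv
  hw := by
    rw [Q_add, Q_add, QuadraticMap.map_smul, QuadraticMap.map_smul, polar_add_left, polar_smul_right,
      polar_smul_right, polar_smul_right, polar_smul_left, h.hu, h.hv, h.hw, h.huv, polar_comm Q w u,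
      polar_comm Q w v, h.huw, h.hvw]
    simp
  huv := h.huv
  huw := by
    rw [polar_add_right, polar_add_right, polar_smul_right, polar_smul_right, h.huw, h.huv,
      polar_self_of_sing h.hu]
    simp
  hvw := by
    rw [polar_add_right, polar_add_right, polar_smul_right, polar_smul_right, h.hvw, polar_comm Q v u, h.huv,
      polar_self_of_sing h.hv]
    simp

theorem TS3.add_second {u v w : V} (h : TS3 Q u v w) (c d : F) : TS3 Q u (v + c • u + d • w) w :=
  (h.swap23.add_third c d).swap23

theorem TS3.smul_third {u v w : V} (h : TS3 Q u v w) {c : F} (hc : c ≠ 0) : TS3 Q u v (c • w) where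
  ind a b e habc := by
    rw [smul_smul] at habc
    obtain ⟨h2, h3, h4⟩ := h.ind _ _ _ habc
    exact ⟨h2, h3, (mul_eq_zero.1 h4).resolve_right hc⟩
  hu := h.hu
  hv := h.hv
  hw := by rw [QuadraticMap.map_smul, h.hw, smul_zero]
  huv := h.huv
  huw := by rw [polar_smul_right, h.huw, smul_zero]
  hvw := by rw [polar_smul_right, h.hvw, smul_zero]

theorem TS2.li {u v : V} (h : TS2 Q u v) : LinearIndependent F ![u, v] :=
  LinearIndependent.pair_iff.2 h.ind

theorem TS3.li {u v w : V} (h : TS3 Q u v w) : LinearIndependent F ![u, v, w] := by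
  rw [Fintype.linearIndependent_iff]
  intro g hg
  rw [Fin.sum_univ_three] at hg
  obtain ⟨h0, h1, h2⟩ := h.ind _ _ _ hg
  intro i
  fin_cases i
  · exact h0
  · exact h1
  · exact h2

/-! ### Transitivity -/

theorem trans2 [Finite F] [FiniteDimensional F V] (hG : Good Q) (hd : 6 ≤ finrank F V) {u v x y : V}
    (h : TS2 Q x y) (h' : TS2 Q u v) : ∃ g ∈ E Q, g x = u ∧ g y = v := by
  obtain ⟨g, hg, e⟩ := exists_E_family hG ![x, y] ![u, v] h.li h'.li
    (by
      intro i
      fin_cases i
      · show Q x = Q u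
        rw [h.hu, h'.hu]
      · show Q y = Q v
        rw [h.hv, h'.hv])
    (by
      intro i j
      fin_cases i <;> fin_cases j
      · show polar Q x x = polar Q u u
        rw [polar_self_of_sing h.hu, polar_self_of_sing h'.hu]
      · show polar Q x y = polar Q u v
        rw [h.huv, h'.huv]
      · show polar Q y x = polar Q v u
        rw [h.swap.huv, h'.swap.huv]
      · show polar Q y y = polar Q v v
        rw [polar_self_of_sing h.hv, polar_self_of_sing h'.hv])
    (by omega)
  exact ⟨g, hg, e 0, e 1⟩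

theorem trans3 [Finite F] [FiniteDimensional F V] (hG : Good Q) (hd : 8 ≤ finrank F V) {u v w x y z : V}
    (h : TS3 Q x y z) (h' : TS3 Q u v w) : ∃ g ∈ E Q, g x = u ∧ g y = v ∧ g z = w := by
  obtain ⟨g, hg, e⟩ := exists_E_family hG ![x, y, z] ![u, v, w] h.li h'.li
    (by
      intro i
      fin_cases i
      · show Q x = Q u
        rw [h.hu, h'.hu]
      · show Q y = Q v
        rw [h.hv, h'.hv]
      · show Q z = Q w
        rw [h.hw, h'.hw])
    (by
      intro i j
      fin_cases i <;> fin_cases j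
      · show polar Q x x = polar Q u u
        rw [polar_self_of_sing h.hu, polar_self_of_sing h'.hu]
      · show polar Q x y = polar Q u v
        rw [h.huv, h'.huv]
      · show polar Q x z = polar Q u w
        rw [h.huw, h'.huw]
      · show polar Q y x = polar Q v u
        rw [h.left.swap.huv, h'.left.swap.huv]
      · show polar Q y y = polar Q v v
        rw [polar_self_of_sing h.hv, polar_self_of_sing h'.hv]
      · show polar Q y z = polar Q v w
        rw [h.hvw, h'.hvw]
      · show polar Q z x = polar Q w u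
        rw [h.outer.swap.huv, h'.outer.swap.huv]
      · show polar Q z y = polar Q w v
        rw [h.right.swap.huv, h'.right.swap.huv]
      · show polar Q z z = polar Q w w
        rw [polar_self_of_sing h.hw, polar_self_of_sing h'.hw])
    (by omega)
  exact ⟨g, hg, e 0, e 1, e 2⟩

/-! ### Existence -/

theorem exists_compl_sing [Finite F] [FiniteDimensional F V] (Y U : Submodule F V)
    (hd : finrank F ↥(Y ⊓ U) + 3 ≤ finrank F Y) : ∃ w ∈ Y, w ∉ U ∧ Q w = 0 := by
  obtain ⟨Z, hZ⟩ := Submodule.exists_isCompl ((Y ⊓ U).comap Y.subtype)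
  have h1 := Submodule.finrank_add_eq_of_isCompl hZ
  have h2 : finrank F ↥((Y ⊓ U).comap Y.subtype) = finrank F ↥(Y ⊓ U) :=
    (Submodule.comapSubtypeEquivOfLe (inf_le_left : Y ⊓ U ≤ Y)).finrank_eq
  have h3 : finrank F ↥(Z.map Y.subtype) = finrank F Z :=
    (Submodule.equivMapOfInjective Y.subtype Y.injective_subtype Z).symm.finrank_eq
  obtain ⟨w, hw, hw0, hQw⟩ := exists_sing_mem (Q := Q) (Z.map Y.subtype) (by omega)
  obtain ⟨w', hw', rfl⟩ := hw
  refine ⟨w', w'.2, fun hU => hw0 ?_, hQw⟩
  have h4 : w' ∈ (Y ⊓ U).comap Y.subtype ⊓ Z := ⟨⟨w'.2, hU⟩, hw'⟩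
  rw [hZ.inf_eq_bot] at h4
  rw [Submodule.mem_bot] at h4
  rw [h4]
  rfl

theorem exists_TS2 [Finite F] [FiniteDimensional F V] (hQ : Nondeg Q) (hd : 5 ≤ finrank F V) {u : V} (hu : Q u = 0)
    (hu0 : u ≠ 0) : ∃ v, TS2 Q u v := by
  set U := Submodule.span F {u} with hU
  have hU1 : finrank F U = 1 := finrank_span_singleton hu0
  have hd' := finrank_perp hQ U
  have h1 : finrank F ↥(perp Q U ⊓ U) ≤ finrank F U := Submodule.finrank_mono inf_le_right
  obtain ⟨w, hw, hwU, hQw⟩ := exists_compl_sing (Q := Q) (perp Q U) U (by omega)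
  have huU : u ∈ U := Submodule.mem_span_singleton_self u
  refine ⟨w, ?_, hu, hQw, mem_perp.1 hw u huU⟩
  intro a b hab
  have hb : b = 0 := by
    by_contra hb
    apply hwU
    have : w = (-(b⁻¹ * a)) • u := by
      have h2 : b • w = (-a) • u := by
        rw [neg_smul]
        exact eq_neg_of_add_eq_zero_right hab
      calc w = b⁻¹ • (b • w) := by rw [smul_smul, inv_mul_cancel₀ hb, one_smul]
        _ = _ := by rw [h2, smul_smul]; congr 1; ring
    rw [this]
    exact U.smul_mem _ huU
  rw [hb, zero_smul, add_zero] at hab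
  exact ⟨(smul_eq_zero.1 hab).resolve_right hu0, hb⟩

theorem TS2.extend [Finite F] [FiniteDimensional F V] (hQ : Nondeg Q) (hd : 7 ≤ finrank F V) {u v : V}
    (h : TS2 Q u v) : ∃ w, TS3 Q u v w := by
  set U := Submodule.span F (Set.range ![u, v]) with hU
  have hU1 : finrank F U = 2 := by
    rw [hU, finrank_span_eq_card h.li, Fintype.card_fin]
  have hd' := finrank_perp hQ U
  have h1 : finrank F ↥(perp Q U ⊓ U) ≤ finrank F U := Submodule.finrank_mono inf_le_right
  obtain ⟨w, hw, hwU, hQw⟩ := exists_compl_sing (Q := Q) (perp Q U) U (by omega)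
  have huU : u ∈ U := Submodule.subset_span ⟨0, rfl⟩
  have hvU : v ∈ U := Submodule.subset_span ⟨1, rfl⟩
  refine ⟨w, ?_, h.hu, h.hv, hQw, h.huv, mem_perp.1 hw u huU, mem_perp.1 hw v hvU⟩
  intro a b c habc
  have hc : c = 0 := by
    by_contra hc
    apply hwU
    have h2 : c • w = (-a) • u + (-b) • v := by
      have h3 := eq_neg_of_add_eq_zero_right habc
      rw [h3]
      module
    have : w = c⁻¹ • ((-a) • u + (-b) • v) := by
      rw [← h2, smul_smul, inv_mul_cancel₀ hc, one_smul]
    rw [this]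
    exact U.smul_mem _ (U.add_mem (U.smul_mem _ huU) (U.smul_mem _ hvU))
  rw [hc, zero_smul, add_zero] at habc
  obtain ⟨ha, hb⟩ := h.ind _ _ habc
  exact ⟨ha, hb, hc⟩

/-- the third vector in a given hyperplane -/
theorem TS2.extend_zero [Finite F] [FiniteDimensional F V] (hQ : Nondeg Q) (hd : 7 ≤ finrank F V) {u v : V}
    (h : TS2 Q u v) (f : V →ₗ[F] F) (hf : f v ≠ 0) : ∃ w, TS3 Q u v w ∧ f w = 0 := by
  obtain ⟨w, hw⟩ := h.extend hQ hd
  refine ⟨_, hw.add_third 0 (-(f w * (f v)⁻¹)), ?_⟩
  rw [zero_smul, add_zero, map_add, map_smul, smul_eq_mul, neg_mul, mul_assoc, inv_mul_cancel₀ hf, mul_one,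
    add_neg_cancel]

/-- a vector orthogonal to all the partners of `u` is a multiple of `u` -/
theorem mem_span_of_TS2 [Finite F] [FiniteDimensional F V] (hQ : Nondeg Q) (hd : 5 ≤ finrank F V) {u p : V}
    (hu : Q u = 0) (hu0 : u ≠ 0) (h : ∀ v, TS2 Q u v → polar Q v p = 0) : ∃ c : F, p = c • u := by
  obtain ⟨z, hz⟩ := exists_TS2 hQ hd hu hu0
  set W := Submodule.span F {u} with hW
  have huW : u ∈ W := Submodule.mem_span_singleton_self u
  have hW0 : ∀ w ∈ W, Q w = 0 := by
    intro w hw
    obtain ⟨a, rfl⟩ := Submodule.mem_span_singleton.1 hw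
    rw [QuadraticMap.map_smul, hu, smul_zero]
  have hTS : ∀ v, Q v = 0 → H884.SingMax.Perp Q W v → v ∉ W → TS2 Q u v := by
    intro v hv hvP hvW
    refine ⟨?_, hu, hv, hvP u huW⟩
    intro a b hab
    have hb : b = 0 := by
      by_contra hb
      apply hvW
      have : v = (-(b⁻¹ * a)) • u := by
        have h2 : b • v = (-a) • u := by
          rw [neg_smul]
          exact eq_neg_of_add_eq_zero_right hab
        calc v = b⁻¹ • (b • v) := by rw [smul_smul, inv_mul_cancel₀ hb, one_smul]
          _ = _ := by rw [h2, smul_smul]; congr 1; ring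
      rw [this]
      exact W.smul_mem _ huW
    rw [hb, zero_smul, add_zero] at hab
    exact ⟨(smul_eq_zero.1 hab).resolve_right hu0, hb⟩
  have hzP : H884.SingMax.Perp Q W z := by
    intro w hw
    obtain ⟨a, rfl⟩ := Submodule.mem_span_singleton.1 hw
    rw [polar_smul_left, hz.huv, smul_zero]
  have hzW : z ∉ W := by
    intro hzW
    obtain ⟨a, ha⟩ := Submodule.mem_span_singleton.1 hzW
    have := (hz.ind a (-1) (by rw [ha]; module)).2
    exact one_ne_zero (neg_eq_zero.1 this)
  have h1 := H884.SingMax.span_in hQ hW0 hz.hv hzP hzW (LinearMap.ker (polarBilin Q p)) (by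
    intro v hv hvP hvW
    rw [LinearMap.mem_ker]
    show polar Q p v = 0
    rw [polar_comm]
    exact h v (hTS v hv hvP hvW))
  have h2 : p ∈ W := by
    refine H884.SingMax.mem_of_perp_perp hQ W fun v hv => ?_
    have h3 := LinearMap.mem_ker.1 (h1 v hv)
    rw [polar_comm]
    exact h3
  obtain ⟨c, hc⟩ := Submodule.mem_span_singleton.1 h2
  exact ⟨c, hc.symm⟩

/-- **A linear map preserving all singular points is a scalar.** -/
theorem scalar_of_fix (hG : Good Q) {n : V →ₗ[F] V}
    (h : ∀ x : V, Q x = 0 → ∃ c : F, n x = c • x) : ∃ c : F, ∀ v : V, n v = c • v := by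
  obtain ⟨x, y, hxy⟩ := hG.exists_hyp
  obtain ⟨c0, hc0⟩ := h x hxy.left
  have cancel : ∀ {z : V} {a b : F}, z ≠ 0 → a • z = b • z → a = b := by
    intro z a b hz hab
    have h1 : (a - b) • z = 0 := by rw [sub_smul, hab, sub_self]
    rcases smul_eq_zero.1 h1 with h2 | h2
    · exact sub_eq_zero.1 h2
    · exact absurd h2 hz
  -- orthogonal and independent
  have h1 : ∀ {a b : V} {c d : F}, Q a = 0 → Q b = 0 → polar Q a b = 0 → a ≠ 0 →
      (∀ e : F, b ≠ e • a) → n a = c • a → n b = d • b → c = d := by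
    intro a b c d ha hb hab ha0 hind hna hnb
    have hs : Q (a + b) = 0 := by rw [Q_add, ha, hb, hab]; simp
    obtain ⟨e, he⟩ := h (a + b) hs
    rw [map_add, hna, hnb, smul_add] at he
    have h2 : (e - d) • b = (c - e) • a := by
      have : (c - e) • a - (e - d) • b = (c • a + d • b) - (e • a + e • b) := by module
      rw [he, sub_self] at this
      exact (sub_eq_zero.1 this).symm
    by_cases h3 : e - d = 0
    · rw [h3, zero_smul] at h2
      have h4 : c - e = 0 := by
        rcases smul_eq_zero.1 h2.symm with h5 | h5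
        · exact h5
        · exact absurd h5 ha0
      linear_combination h3 + h4
    · exfalso
      apply hind ((e - d)⁻¹ * (c - e))
      rw [mul_smul, ← h2, smul_smul, inv_mul_cancel₀ h3, one_smul]
  refine ⟨c0, sing_induction hxy ?_ ?_⟩
  · intro a b ha hb
    show n (a + b) = _
    rw [map_add, ha, hb, smul_add]
  · intro a ha
    show n a = c0 • a
    by_cases ha0 : a = 0
    · rw [ha0]; simp
    obtain ⟨d, hd⟩ := h a ha
    rw [hd]
    congr 1
    by_cases hdep : ∃ e : F, a = e • x
    · obtain ⟨e, rfl⟩ := hdep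
      rw [map_smul, hc0, smul_comm] at hd
      exact (cancel ha0 hd).symm
    push Not at hdep
    by_cases hp : polar Q x a = 0
    · exact (h1 hxy.left ha hp hxy.left_ne hdep hc0 hd).symm
    · have hyp : Hyp Q x ((polar Q x a)⁻¹ • a) := by
        refine ⟨hxy.left, ?_, ?_⟩
        · rw [QuadraticMap.map_smul, ha, smul_zero]
        · rw [polar_smul_right, smul_eq_mul, inv_mul_cancel₀ hp]
      obtain ⟨w, hw0, hw, hxw, haw⟩ := hG.perp _ _ hyp
      have haw' : polar Q a w = 0 := by
        rw [polar_smul_left, smul_eq_mul] at haw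
        rcases mul_eq_zero.1 haw with h | h
        · exact absurd (inv_eq_zero.1 h) hp
        · exact h
      obtain ⟨f, hf⟩ := h w hw
      have e1 : c0 = f := by
        refine h1 hxy.left hw hxw hxy.left_ne ?_ hc0 hf
        rintro e rfl
        rw [polar_smul_right, polar_comm Q a x, smul_eq_mul] at haw'
        rcases mul_eq_zero.1 haw' with h | h
        · rw [h, zero_smul] at hw0
          exact hw0 rfl
        · exact hp h
      have e2 : d = f := by
        refine h1 ha hw haw' ha0 ?_ hd hf
        rintro e rfl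
        rw [polar_smul_right, smul_eq_mul] at hxw
        rcases mul_eq_zero.1 hxw with h | h
        · rw [h, zero_smul] at hw0
          exact hw0 rfl
        · exact hp h
      rw [e2, ← e1]

/-- a linear map `n` with `B(v, n u) = 0` for all totally singular pairs is a scalar -/
theorem scalar_of_TS2 [Finite F] [FiniteDimensional F V] (hG : Good Q) {n : V →ₗ[F] V}
    (h : ∀ u v, TS2 Q u v → polar Q v (n u) = 0) : ∃ c : F, ∀ v : V, n v = c • v := by
  refine scalar_of_fix hG fun x hx => ?_
  by_cases hx0 : x = 0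
  · exact ⟨0, by rw [hx0]; simp⟩
  · exact mem_span_of_TS2 hG.nondeg hG.dim hx hx0 fun v hv => h x v hv

end Cfsg.Agent.H445.AH
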