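import Cfsg.Agent.H445.AH.OTrans
import Cfsg.Agent.H890.SpParity
import Cfsg.Agent.S0760
import Cfsg.Agent.H27.AH.Defs_m3
import Cfsg.Agent.TitsThree.KSideO
import Cfsg.Agent.LieClassical.OrthForms
import Cfsg.Agent.FastGrp
import Cfsg.Agent.Prune
set_option linter.all false
prune_inst 0x7fffefffbbfafbffdfff7e7fa7deeffdfbbbbfffa6dff9cbffe06fff9bff5b126fc5fbaf8ffab0fe1ef7e23414fa7b53fdfffeffe26bdc7ffffd5ff41ffbffcffdf7b50851dd98b40fbc0ffe03f0778e7f3fffffffffffffffffffffffffffbeffbfffffffff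
open scoped Cfsg.Agent.FastGrp

-- part: H445/AH/OTrace
section
/-!
# S2451 (C), orthogonal groups: the trace identities (helper445)

`rt Q u v = (x ↦ B(u,x) v - B(v,x) u)`; for a totally singular pair `u`, `v` the element `h = 1 + rt Q u v` is in `E Q`,
and `tr (a h b h⁻¹)` is a quadratic polynomial in `v`.

* `NZ` : a quadratic polynomial in two variables with values in `{n, -n}` (odd characteristic) has discriminant zero;
* `weak_id`, `const12`, `const1` : the resulting identities for totally singular triples and pairs.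
-/

set_option autoImplicit false
set_option linter.unusedSectionVars false

namespace Cfsg.Agent.H445.AH

open QuadraticMap Cfsg.Agent.LieClassical.OrthCore Cfsg.Agent.LieClassical.OrthTrans
  Cfsg.Agent.LieClassical.OrthFinite Cfsg.Agent.H883.Sub Module

variable {F V : Type*} [Field F] [AddCommGroup V] [Module F V] {Q : QuadraticForm F V}

/-! ### Quadratic polynomials -/

theorem exists_zero_of_lead [Finite F] (h2 : (2 : F) ≠ 0) {c a1 a2 d1 d12 d2 : F} (h1 : d1 ≠ 0)
    (hD : d12 ^ 2 ≠ 4 * d1 * d2) : ∃ s t : F, c + a1 * s + a2 * t - (d1 * s ^ 2 + d12 * s * t + d2 * t ^ 2) = 0 := by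
  have := Fintype.ofFinite F
  have hodd : Fintype.card F % 2 = 1 := by
    refine FiniteField.odd_card_of_char_ne_two ?_
    intro h
    apply h2
    have : CharP F 2 := by rw [← h]; exact ringChar.charP F
    exact CharTwo.two_eq_zero
  have h4 : (2 * d1) ≠ 0 := mul_ne_zero h2 h1
  obtain ⟨m, hm⟩ : ∃ m : F, d12 = 2 * d1 * m := ⟨d12 / (2 * d1), by field_simp⟩
  subst hm
  have hl : -(d2 - d1 * m ^ 2) ≠ 0 := by
    intro h
    apply hD
    linear_combination 4 * d1 * h
  obtain ⟨x, y, h⟩ := FiniteField.exists_root_sum_quadratic (R := F)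
    (f := Polynomial.C (-d1) * Polynomial.X ^ 2 + Polynomial.C a1 * Polynomial.X + Polynomial.C c)
    (g := Polynomial.C (-(d2 - d1 * m ^ 2)) * Polynomial.X ^ 2 +
      Polynomial.C (a2 - a1 * m) * Polynomial.X + Polynomial.C 0)
    (Polynomial.degree_quadratic (neg_ne_zero.2 h1)) (Polynomial.degree_quadratic hl) hodd
  refine ⟨x - m * y, y, ?_⟩
  simp only [Polynomial.eval_add, Polynomial.eval_mul, Polynomial.eval_C, Polynomial.eval_pow,
    Polynomial.eval_X] at h
  rw [← h]
  ring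

/-- **Quadratic polynomials with at most two opposite values.** -/
theorem NZ [Finite F] (h2 : (2 : F) ≠ 0) {c a1 a2 d1 d12 d2 n : F}
    (h : ∀ s t : F, c + a1 * s + a2 * t - (d1 * s ^ 2 + d12 * s * t + d2 * t ^ 2) = n ∨
      c + a1 * s + a2 * t - (d1 * s ^ 2 + d12 * s * t + d2 * t ^ 2) = -n) : d12 ^ 2 = 4 * d1 * d2 := by
  by_cases hn : n = 0
  · subst hn
    have h0 : ∀ s t : F, c + a1 * s + a2 * t - (d1 * s ^ 2 + d12 * s * t + d2 * t ^ 2) = 0 := by
      intro s t
      rcases h s t with h | h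
      · exact h
      · rw [h, neg_zero]
    have e0 := h0 0 0
    have e1 := h0 1 0
    have e2 := h0 (-1) 0
    have e3 := h0 0 1
    have e4 := h0 0 (-1)
    have e5 := h0 1 1
    have hd1 : d1 = 0 := by
      have : 2 * d1 = 0 := by linear_combination -e1 - e2 + 2 * e0
      exact (mul_eq_zero.1 this).resolve_left h2
    have hd2 : d2 = 0 := by
      have : 2 * d2 = 0 := by linear_combination -e3 - e4 + 2 * e0
      exact (mul_eq_zero.1 this).resolve_left h2
    have hd12 : d12 = 0 := by linear_combination -e5 + e1 + e3 - e0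
    rw [hd1, hd2, hd12]
    ring
  · by_contra hD
    have h0 : ∀ s t : F, c + a1 * s + a2 * t - (d1 * s ^ 2 + d12 * s * t + d2 * t ^ 2) ≠ 0 := by
      intro s t h'
      rcases h s t with h | h
      · exact hn (h.symm.trans h')
      · exact hn (neg_eq_zero.1 (h.symm.trans h'))
    by_cases h1 : d1 = 0
    · by_cases h3 : d2 = 0
      · have h12 : d12 ≠ 0 := by
          intro h12
          apply hD
          rw [h12, h1]
          ring
        refine h0 ((a2 - 1) / d12) (-(c + a1 * ((a2 - 1) / d12))) ?_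
        rw [h1, h3]
        have e : d12 * ((a2 - 1) / d12) = a2 - 1 := by field_simp
        linear_combination (c + a1 * ((a2 - 1) / d12)) * e
      · obtain ⟨s, t, hst⟩ := exists_zero_of_lead h2 (c := c) (a1 := a2) (a2 := a1) (d1 := d2) (d12 := d12)
          (d2 := d1) h3 (by intro h; apply hD; linear_combination h)
        refine h0 t s ?_
        linear_combination hst
    · obtain ⟨s, t, hst⟩ := exists_zero_of_lead h2 (c := c) (a1 := a1) (a2 := a2) h1 hD
      exact h0 s t hst

/-! ### Root elements -/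

/-- `x ↦ B(u,x) v - B(v,x) u` -/
def rt (Q : QuadraticForm F V) (u v : V) : V →ₗ[F] V :=
  (polarBilin Q u).smulRight v - (polarBilin Q v).smulRight u

theorem rt_apply (u v x : V) : rt Q u v x = polar Q u x • v - polar Q v x • u := rfl

theorem siegel_eq {u v : V} (hu : Q u = 0) (hv : Q v = 0) (huv : polar Q u v = 0) :
    ((siegel Q u v hu huv : V ≃ₗ[F] V) : V →ₗ[F] V) = LinearMap.id + rt Q u v := by
  ext x
  show siegel Q u v hu huv x = _
  rw [siegel_apply, hv, LinearMap.add_apply, rt_apply]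
  simp
  module

theorem siegel_inv_eq {u v : V} (hu : Q u = 0) (hv : Q v = 0) (huv : polar Q u v = 0) :
    (((siegel Q u v hu huv)⁻¹ : V ≃ₗ[F] V) : V →ₗ[F] V) = LinearMap.id - rt Q u v := by
  have hw' : polar Q u (-v) = 0 := by rw [polar_neg_right, huv, neg_zero]
  rw [siegel_inv hu huv hw', siegel_eq hu (by rw [QuadraticMap.map_neg, hv]) hw']
  ext x
  rw [LinearMap.add_apply, LinearMap.sub_apply, rt_apply, rt_apply, polar_neg_left]
  module

/-- the linear part -/
def Lf (Q : QuadraticForm F V) (a b : V →ₗ[F] V) (u v : V) : F :=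
  polar Q u (b (a v)) - polar Q v (b (a u)) - polar Q u (a (b v)) + polar Q v (a (b u))

/-- the quadratic part -/
def Dm (Q : QuadraticForm F V) (a : V →ₗ[F] V) (u v : V) (b : V →ₗ[F] V) (x y : V) : F :=
  polar Q x (b y) * polar Q u (a v) - polar Q y (b y) * polar Q u (a u) -
    polar Q x (b x) * polar Q v (a v) + polar Q y (b x) * polar Q v (a u)

/-- the polar form of the quadratic part -/
def D12 (Q : QuadraticForm F V) (a : V →ₗ[F] V) (u v w : V) (b : V →ₗ[F] V) (x y z : V) : F :=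
  polar Q x (b y) * polar Q u (a w) + polar Q x (b z) * polar Q u (a v) -
    (polar Q y (b z) + polar Q z (b y)) * polar Q u (a u) -
    polar Q x (b x) * (polar Q v (a w) + polar Q w (a v)) +
    polar Q y (b x) * polar Q w (a u) + polar Q z (b x) * polar Q v (a u)

theorem trace_root [FiniteDimensional F V] (a b : V →ₗ[F] V) (u v : V) :
    LinearMap.trace F V (a ∘ₗ (LinearMap.id + rt Q u v) ∘ₗ b ∘ₗ (LinearMap.id - rt Q u v)) =
      LinearMap.trace F V (a ∘ₗ b) + Lf Q a b u v - Dm Q a u v b u v := by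
  have e : a ∘ₗ (LinearMap.id + rt Q u v) ∘ₗ b ∘ₗ (LinearMap.id - rt Q u v) =
      a ∘ₗ b + (((polarBilin Q u) ∘ₗ b).smulRight (a v) - ((polarBilin Q v) ∘ₗ b).smulRight (a u)) -
        ((polarBilin Q u).smulRight (a (b v)) - (polarBilin Q v).smulRight (a (b u))) -
        ((polarBilin Q u).smulRight (a (rt Q u v (b v))) - (polarBilin Q v).smulRight (a (rt Q u v (b u)))) := by
    ext x
    simp only [LinearMap.comp_apply, LinearMap.add_apply, LinearMap.sub_apply, LinearMap.id_apply,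
      LinearMap.smulRight_apply, rt_apply, map_add, map_sub, map_smul, polarBilin_apply_apply, smul_sub]
    module
  rw [e]
  simp only [map_sub, map_add, LinearMap.trace_smulRight, LinearMap.comp_apply, polarBilin_apply_apply]
  simp only [rt_apply, map_sub, map_smul, polar_sub_right, polar_smul_right, smul_eq_mul, Lf, Dm]
  ring

theorem Lf_comb (a b : V →ₗ[F] V) (u v w : V) (s t : F) :
    Lf Q a b u (s • v + t • w) = s * Lf Q a b u v + t * Lf Q a b u w := by
  simp only [Lf, map_add, map_smul, polar_add_right, polar_smul_right, polar_add_left, polar_smul_left,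
    smul_eq_mul]
  ring

theorem Dm_comb (a b : V →ₗ[F] V) (u v w : V) (s t : F) :
    Dm Q a u (s • v + t • w) b u (s • v + t • w) =
      Dm Q a u v b u v * s ^ 2 + D12 Q a u v w b u v w * s * t + Dm Q a u w b u w * t ^ 2 := by
  simp only [Dm, D12, map_add, map_smul, polar_add_right, polar_smul_right, polar_add_left, polar_smul_left,
    smul_eq_mul]
  ring

/-- the trace of `a b` -/
noncomputable def tr2 (a b : V ≃ₗ[F] V) : F := LinearMap.trace F V ((a : V →ₗ[F] V) ∘ₗ (b : V →ₗ[F] V))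

theorem tr2_root [FiniteDimensional F V] (a b : V ≃ₗ[F] V) {u v : V} (hu : Q u = 0) (hv : Q v = 0)
    (huv : polar Q u v = 0) :
    tr2 a (siegel Q u v hu huv * b * (siegel Q u v hu huv)⁻¹) =
      tr2 a b + Lf Q (a : V →ₗ[F] V) b u v - Dm Q (a : V →ₗ[F] V) u v b u v := by
  rw [tr2, tr2, ← trace_root]
  congr 1
  rw [← siegel_eq hu hv huv, ← siegel_inv_eq hu hv huv]
  rfl

/-! ### The identities -/

theorem polar_conj {g : V ≃ₗ[F] V} (hg : g ∈ O Q) (b : V ≃ₗ[F] V) (x y : V) :
    polar Q (g x) ((g * b * g⁻¹) (g y)) = polar Q x (b y) := by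
  have e : (g * b * g⁻¹) (g y) = g (b y) := by
    show g (b (g.symm (g y))) = _
    rw [LinearEquiv.symm_apply_apply]
  rw [e, polar_map hg]

section Ids

variable [FiniteDimensional F V] {a b : V ≃ₗ[F] V}

theorem tr2_sing {n m : F} (hT : ∀ g ∈ E Q, tr2 a (g * b * g⁻¹) = n ∨ tr2 a (g * b * g⁻¹) = m) {g : V ≃ₗ[F] V}
    (hg : g ∈ E Q) {u v w : V} (h : TS3 Q u v w) (s t : F) :
    let b' := g * b * g⁻¹
    let f := tr2 a b' + Lf Q (a : V →ₗ[F] V) b' u v * s + Lf Q (a : V →ₗ[F] V) b' u w * t -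
      (Dm Q (a : V →ₗ[F] V) u v b' u v * s ^ 2 + D12 Q (a : V →ₗ[F] V) u v w b' u v w * s * t +
        Dm Q (a : V →ₗ[F] V) u w b' u w * t ^ 2)
    f = n ∨ f = m := by
  intro b' f
  have hw0 : Q (s • v + t • w) = 0 := by
    rw [Q_add, QuadraticMap.map_smul, QuadraticMap.map_smul, polar_smul_left, polar_smul_right, h.hv, h.hw, h.hvw]
    simp
  have huw0 : polar Q u (s • v + t • w) = 0 := by
    rw [polar_add_right, polar_smul_right, polar_smul_right, h.huv, h.huw]
    simp
  have h1 := tr2_root a b' h.hu hw0 huw0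
  rw [Lf_comb, Dm_comb] at h1
  have e : siegel Q u (s • v + t • w) h.hu huw0 * b' * (siegel Q u (s • v + t • w) h.hu huw0)⁻¹ =
      (siegel Q u (s • v + t • w) h.hu huw0 * g) * b * (siegel Q u (s • v + t • w) h.hu huw0 * g)⁻¹ := by
    simp only [b']
    group
  rw [e] at h1
  have h2 := hT _ (E_mul (siegel_mem_E h.hu huw0) hg)
  rw [h1] at h2
  have e2 : f = tr2 a b' + (s * Lf Q (a : V →ₗ[F] V) b' u v + t * Lf Q (a : V →ₗ[F] V) b' u w) -
      (Dm Q (a : V →ₗ[F] V) u v b' u v * s ^ 2 + D12 Q (a : V →ₗ[F] V) u v w b' u v w * s * t +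
        Dm Q (a : V →ₗ[F] V) u w b' u w * t ^ 2) := by
    simp only [f]
    ring
  rw [e2]
  exact h2

/-- **The weak identity** (odd characteristic). -/
theorem weak_id [Finite F] (h2 : (2 : F) ≠ 0) (hG : Good Q) (hd : 8 ≤ finrank F V) {n : F}
    (hT : ∀ g ∈ E Q, tr2 a (g * b * g⁻¹) = n ∨ tr2 a (g * b * g⁻¹) = -n) {u v w x y z : V}
    (h : TS3 Q u v w) (h' : TS3 Q x y z) :
    D12 Q (a : V →ₗ[F] V) u v w (b : V →ₗ[F] V) x y z ^ 2 =
      4 * Dm Q (a : V →ₗ[F] V) u v (b : V →ₗ[F] V) x y * Dm Q (a : V →ₗ[F] V) u w (b : V →ₗ[F] V) x z := by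
  obtain ⟨g, hg, rfl, rfl, rfl⟩ := trans3 hG hd h' h
  have hgO := E_le_O hg
  have h3 := NZ h2 (fun s t => tr2_sing hT hg h s t)
  have e : ∀ p q : V, polar Q (g p) (((g * b * g⁻¹ : V ≃ₗ[F] V) : V →ₗ[F] V) (g q)) =
      polar Q p ((b : V →ₗ[F] V) q) := fun p q => polar_conj hgO b p q
  simp only [Dm, D12, e] at h3 ⊢
  exact h3

/-- **Constant trace**: the polar identity. -/
theorem const12 [Finite F] (hG : Good Q) (hd : 8 ≤ finrank F V) {n : F}
    (hT : ∀ g ∈ E Q, tr2 a (g * b * g⁻¹) = n) {u v w x y z : V}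
    (h : TS3 Q u v w) (h' : TS3 Q x y z) :
    D12 Q (a : V →ₗ[F] V) u v w (b : V →ₗ[F] V) x y z = 0 := by
  obtain ⟨g, hg, rfl, rfl, rfl⟩ := trans3 hG hd h' h
  have hgO := E_le_O hg
  have h3 := fun s t => tr2_sing (m := n) (fun g hg => Or.inl (hT g hg)) hg h s t
  simp only [or_self] at h3
  have e : ∀ p q : V, polar Q (g p) (((g * b * g⁻¹ : V ≃ₗ[F] V) : V →ₗ[F] V) (g q)) =
      polar Q p ((b : V →ₗ[F] V) q) := fun p q => polar_conj hgO b p q
  have h4 : D12 Q (a : V →ₗ[F] V) (g x) (g y) (g z) ((g * b * g⁻¹ : V ≃ₗ[F] V) : V →ₗ[F] V) (g x) (g y) (g z) = 0 := by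
    linear_combination -(h3 1 1) + h3 1 0 + h3 0 1 - h3 0 0
  simp only [D12, e] at h4 ⊢
  exact h4

/-- **Constant trace**, odd characteristic: the identity for pairs. -/
theorem const1 [Finite F] (h2 : (2 : F) ≠ 0) (hG : Good Q) (hd : 6 ≤ finrank F V) {n : F}
    (hT : ∀ g ∈ E Q, tr2 a (g * b * g⁻¹) = n) {u v x y : V}
    (h : TS2 Q u v) (h' : TS2 Q x y) :
    Dm Q (a : V →ₗ[F] V) u v (b : V →ₗ[F] V) x y = 0 := by
  obtain ⟨g, hg, rfl, rfl⟩ := trans2 hG hd h' h
  have hgO := E_le_O hg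
  have e : ∀ p q : V, polar Q (g p) (((g * b * g⁻¹ : V ≃ₗ[F] V) : V →ₗ[F] V) (g q)) =
      polar Q p ((b : V →ₗ[F] V) q) := fun p q => polar_conj hgO b p q
  have h3 : ∀ s : F, tr2 a (g * b * g⁻¹) +
      s * Lf Q (a : V →ₗ[F] V) ((g * b * g⁻¹ : V ≃ₗ[F] V) : V →ₗ[F] V) (g x) (g y) -
      s ^ 2 * Dm Q (a : V →ₗ[F] V) (g x) (g y) ((g * b * g⁻¹ : V ≃ₗ[F] V) : V →ₗ[F] V) (g x) (g y) = n := by
    intro s
    have hw0 : Q (s • g y) = 0 := by rw [QuadraticMap.map_smul, h.hv, smul_zero]
    have huw0 : polar Q (g x) (s • g y) = 0 := by rw [polar_smul_right, h.huv, smul_zero]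
    have h1 := tr2_root a (g * b * g⁻¹) h.hu hw0 huw0
    have e1 : siegel Q (g x) (s • g y) h.hu huw0 * (g * b * g⁻¹) * (siegel Q (g x) (s • g y) h.hu huw0)⁻¹ =
        (siegel Q (g x) (s • g y) h.hu huw0 * g) * b * (siegel Q (g x) (s • g y) h.hu huw0 * g)⁻¹ := by
      group
    rw [e1, hT _ (E_mul (siegel_mem_E h.hu huw0) hg)] at h1
    rw [h1]
    simp only [Lf, Dm, map_smul, polar_smul_right, polar_smul_left, smul_eq_mul]
    ring
  have h4 : 2 * Dm Q (a : V →ₗ[F] V) (g x) (g y) ((g * b * g⁻¹ : V ≃ₗ[F] V) : V →ₗ[F] V) (g x) (g y) = 0 := by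
    linear_combination -(h3 1) - h3 (-1) + 2 * h3 0
  have h5 := (mul_eq_zero.1 h4).resolve_left h2
  simp only [Dm, e] at h5 ⊢
  exact h5

end Ids

end Cfsg.Agent.H445.AH
end

-- part: H445/AH/OAlg
section
/-!
# S2451 (C), orthogonal groups in odd characteristic: consequences of the weak identity (helper445)

* `NoN Q a` : `B(u, a u) = 0` for all singular `u`; `NoP Q a` : singular `u` with `B(u, a u) = 0` are eigenvectors;
* `kappa_of_NoN` : `NoN Q a` implies `a + a⁻¹` scalar;
* `sq_of_symm` : `B(v, b u) = B(u, b v)` for all totally singular pairs implies `b² = 1`;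
* `symm_of_NoN`, `sigma_zero`, `NoP_of_P`, `disc_zero`, `symm_of_NoP` : consequences of the weak identity.
-/

set_option autoImplicit false
set_option linter.unusedSectionVars false

namespace Cfsg.Agent.H445.AH

open QuadraticMap Cfsg.Agent.LieClassical.OrthCore Cfsg.Agent.LieClassical.OrthTrans
  Cfsg.Agent.LieClassical.OrthFinite Cfsg.Agent.H883.Sub Module

variable {F V : Type*} [Field F] [AddCommGroup V] [Module F V] {Q : QuadraticForm F V}

/-- the weak identity -/
def Weak (Q : QuadraticForm F V) (a b : V →ₗ[F] V) : Prop :=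
  ∀ u v w x y z : V, TS3 Q u v w → TS3 Q x y z →
    D12 Q a u v w b x y z ^ 2 = 4 * Dm Q a u v b x y * Dm Q a u w b x z

theorem Weak.symm {a b : V →ₗ[F] V} (h : Weak Q a b) : Weak Q b a := by
  intro u v w x y z h1 h2
  have h3 := h x y z u v w h2 h1
  have e1 : D12 Q b u v w a x y z = D12 Q a x y z b u v w := by
    unfold D12
    ring
  have e2 : Dm Q b u v a x y = Dm Q a x y b u v := by
    unfold Dm
    ring
  have e3 : Dm Q b u w a x z = Dm Q a x z b u w := by
    unfold Dm
    ring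
  rw [e1, e2, e3]
  exact h3

/-- no singular vector is moved to a nonperpendicular one -/
def NoN (Q : QuadraticForm F V) (a : V →ₗ[F] V) : Prop := ∀ u, Q u = 0 → polar Q u (a u) = 0

/-- no singular point is moved to a perpendicular one -/
def NoP (Q : QuadraticForm F V) (a : V →ₗ[F] V) : Prop :=
  ∀ u, Q u = 0 → polar Q u (a u) = 0 → ∃ c : F, a u = c • u

theorem NoN.skew {a : V →ₗ[F] V} (h : NoN Q a) {u v : V} (huv : TS2 Q u v) :
    polar Q u (a v) + polar Q v (a u) = 0 := by
  have h0 : Q (u + v) = 0 := by rw [Q_add, huv.hu, huv.hv, huv.huv]; simp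
  have h1 := h _ h0
  rw [map_add, polar_add_left, polar_add_right, polar_add_right, h _ huv.hu, h _ huv.hv] at h1
  linear_combination h1

theorem polar_inv {a : V ≃ₗ[F] V} (ha : a ∈ O Q) (x y : V) : polar Q x (a⁻¹ y) = polar Q (a x) y := by
  rw [← polar_map ha x (a⁻¹ y)]
  congr 1
  exact LinearEquiv.apply_symm_apply a y

theorem kappa_of_NoN [Finite F] [FiniteDimensional F V] (hG : Good Q) {a : V ≃ₗ[F] V} (ha : a ∈ O Q)
    (h : NoN Q (a : V →ₗ[F] V)) : ∃ κ : F, ∀ v, a v + a⁻¹ v = κ • v := by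
  obtain ⟨c, hc⟩ := scalar_of_TS2 hG (n := (a : V →ₗ[F] V) + ((a⁻¹ : V ≃ₗ[F] V) : V →ₗ[F] V)) (by
    intro u v huv
    show polar Q v (a u + a⁻¹ u) = 0
    rw [polar_add_right, polar_inv ha, polar_comm Q (a v) u]
    have := h.skew huv
    have h1 : polar Q u (a v) + polar Q v (a u) = 0 := this
    rw [add_comm]
    exact h1)
  exact ⟨c, hc⟩

/-- skew part zero -/
theorem sq_of_symm [Finite F] [FiniteDimensional F V] (h2 : (2 : F) ≠ 0) (hG : Good Q) {b : V ≃ₗ[F] V} (hb : b ∈ O Q)
    (h : ∀ u v, TS2 Q u v → polar Q v (b u) = polar Q u (b v)) : ∀ v, b (b v) = v := by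
  obtain ⟨c, hc⟩ := scalar_of_TS2 hG (n := (b : V →ₗ[F] V) - ((b⁻¹ : V ≃ₗ[F] V) : V →ₗ[F] V)) (by
    intro u v huv
    show polar Q v (b u - b⁻¹ u) = 0
    rw [polar_sub_right, polar_inv hb, polar_comm Q (b v) u, h u v huv, sub_self])
  have hc' : ∀ v, b v - b⁻¹ v = c • v := hc
  obtain ⟨x, y, hxy⟩ := hG.exists_hyp
  have h1 : polar Q x (b y) - polar Q (b x) y = c := by
    rw [← polar_inv hb, ← polar_sub_right, hc', polar_smul_right, hxy.pair, smul_eq_mul, mul_one]
  have h3 : polar Q y (b x) - polar Q (b y) x = c := by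
    rw [← polar_inv hb, ← polar_sub_right, hc', polar_smul_right, hxy.pair', smul_eq_mul, mul_one]
  rw [polar_comm Q (b x) y] at h1
  rw [polar_comm Q (b y) x] at h3
  have hc0 : c = 0 := by
    have : 2 * c = 0 := by linear_combination -h1 - h3
    exact (mul_eq_zero.1 this).resolve_left h2
  intro v
  have h4 := hc' v
  rw [hc0, zero_smul, sub_eq_zero] at h4
  rw [h4]
  exact LinearEquiv.apply_symm_apply b v

section

variable [Finite F] [FiniteDimensional F V]

theorem exists_P_of_NoN (hG : Good Q) {a : V →ₗ[F] V} (hns : ∀ c : F, ∃ v, a v ≠ c • v) :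
    ∃ u v, TS2 Q u v ∧ polar Q v (a u) ≠ 0 := by
  by_contra hcon
  push Not at hcon
  obtain ⟨c, hc⟩ := scalar_of_TS2 hG hcon
  obtain ⟨v, hv⟩ := hns c
  exact hv (hc v)

/-- the functional `w ↦ B(w, p)` -/
theorem extend_perp (hQ : Nondeg Q) (hd : 7 ≤ finrank F V) {u v p : V} (h : TS2 Q u v)
    (hv : polar Q v p ≠ 0) : ∃ w, TS3 Q u v w ∧ polar Q w p = 0 := by
  obtain ⟨w, hw, hw0⟩ := h.extend_zero hQ hd (polarBilin Q p) (by
    show polar Q p v ≠ 0
    rw [polar_comm]
    exact hv)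
  refine ⟨w, hw, ?_⟩
  rw [polar_comm]
  exact hw0

variable {a b : V →ₗ[F] V}

/-- (5) -/
theorem symm_of_NoN (hG : Good Q) (hd : 7 ≤ finrank F V) (hW : Weak Q a b) (ha : NoN Q a)
    (hns : ∀ c : F, ∃ v, a v ≠ c • v) {x z : V} (hxz : TS2 Q x z) : polar Q z (b x) = polar Q x (b z) := by
  obtain ⟨u, v, huv, hv⟩ := exists_P_of_NoN hG hns
  obtain ⟨w, hw, hw0⟩ := extend_perp hG.nondeg hd huv hv
  obtain ⟨y, hy⟩ := hxz.extend hG.nondeg hd
  have h1 := hW u v w x y z hw hy.swap23
  have e1 := ha.skew hw.left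
  have e2 := ha.skew hw.outer
  have e3 := ha.skew hw.right
  have e4 := ha u hw.hu
  have e5 := ha v hw.hv
  have e6 := ha w hw.hw
  rw [hw0, add_zero] at e2
  have e1' : polar Q u (a v) = -polar Q v (a u) := by linear_combination e1
  have e3' : polar Q v (a w) = -polar Q w (a v) := by linear_combination e3
  unfold D12 Dm at h1
  rw [e2, e4, e5, e6, hw0, e1', e3'] at h1
  have h3 : (polar Q v (a u) * (polar Q z (b x) - polar Q x (b z))) ^ 2 = 0 := by
    linear_combination h1
  have h4 := (mul_eq_zero.1 ((pow_eq_zero_iff two_ne_zero).1 h3)).resolve_left hv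
  exact sub_eq_zero.1 h4

/-- (1) -/
theorem sigma_zero (h2 : (2 : F) ≠ 0) (hG : Good Q) (hd : 7 ≤ finrank F V) (hW : Weak Q a b) (hb : ¬ NoN Q b)
    {u v : V} (huv : TS2 Q u v) (hu : polar Q u (a u) = 0) : polar Q u (a v) + polar Q v (a u) = 0 := by
  by_contra hs
  unfold NoN at hb
  push Not at hb
  obtain ⟨x, hx, hbx⟩ := hb
  have hx0 : x ≠ 0 := by
    rintro rfl
    apply hbx
    rw [polar_zero_left]
  obtain ⟨y0, hy0⟩ := exists_TS2 hG.nondeg hG.dim hx hx0
  obtain ⟨z0, hz0⟩ := hy0.extend hG.nondeg hd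
  have h22 : 2 * polar Q x (b x) ≠ 0 := mul_ne_zero h2 hbx
  -- adjust `y`, `z`
  have hadj : ∀ y : V, ∃ c : F, polar Q x (b (y + c • x)) + polar Q (y + c • x) (b x) = 0 := by
    intro y
    refine ⟨-((polar Q x (b y) + polar Q y (b x)) / (2 * polar Q x (b x))), ?_⟩
    rw [map_add, map_smul, polar_add_right, polar_add_left, polar_smul_right, polar_smul_left]
    simp only [smul_eq_mul]
    field_simp
    ring
  obtain ⟨c, hc⟩ := hadj y0
  obtain ⟨d, hd'⟩ := hadj z0
  have hT : TS3 Q x (y0 + c • x) (z0 + d • x) := by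
    have h1 := hz0.add_second c 0
    rw [zero_smul, add_zero] at h1
    have h3 := h1.add_third d 0
    rwa [zero_smul, add_zero] at h3
  set y := y0 + c • x with hy
  set z := z0 + d • x with hz
  clear_value y z
  obtain ⟨w, hw, hw0⟩ := huv.extend_zero hG.nondeg hd
    (polarBilin Q (a u) + (polarBilin Q u) ∘ₗ a) (by
      show polar Q (a u) v + polar Q u (a v) ≠ 0
      rw [polar_comm Q (a u) v, add_comm]
      exact hs)
  have hw0' : polar Q w (a u) + polar Q u (a w) = 0 := by
    rw [polar_comm Q w (a u)]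
    exact hw0
  have key : ∀ γ : F, (D12 Q a u v w b x y z - γ * (polar Q x (b x) * (polar Q u (a v) + polar Q v (a u)))) ^ 2 =
      4 * Dm Q a u v b x y * Dm Q a u w b x z := by
    intro γ
    have h1 := hW u v (w + γ • u) x y z (by
      have h3 := hw.add_third γ 0
      rwa [zero_smul, add_zero] at h3) hT
    have e1 : D12 Q a u v (w + γ • u) b x y z =
        D12 Q a u v w b x y z - γ * (polar Q x (b x) * (polar Q u (a v) + polar Q v (a u))) := by
      unfold D12
      simp only [map_add, map_smul, polar_add_right, polar_add_left, polar_smul_right, polar_smul_left,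
        smul_eq_mul, hu]
      ring
    have e2 : Dm Q a u (w + γ • u) b x z = Dm Q a u w b x z := by
      unfold Dm
      simp only [map_add, map_smul, polar_add_right, polar_add_left, polar_smul_right, polar_smul_left,
        smul_eq_mul, hu]
      linear_combination (-(polar Q x (b x)) * γ) * hw0'
    rw [e1, e2] at h1
    exact h1
  set m := polar Q x (b x) * (polar Q u (a v) + polar Q v (a u)) with hm
  have hm0 : m ≠ 0 := mul_ne_zero hbx hs
  have k0 := key 0
  have k1 := key 1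
  have k2 := key (-1)
  have h4 : (2 * 2) * (D12 Q a u v w b x y z * m) = 0 := by linear_combination k2 - k1
  have h5 : D12 Q a u v w b x y z * m = 0 := (mul_eq_zero.1 h4).resolve_left (mul_ne_zero h2 h2)
  have h6 : m ^ 2 = 0 := by linear_combination k1 - k0 + 2 * h5
  exact hm0 ((pow_eq_zero_iff two_ne_zero).1 h6)

/-- (2) -/
theorem NoP_of_P (h2 : (2 : F) ≠ 0) (hG : Good Q) (hd : 7 ≤ finrank F V) (hW : Weak Q a b) (ha : ¬ NoN Q a)
    (hb : ¬ NoN Q b) (hP : ¬ NoP Q a) : NoP Q b := by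
  unfold NoP at hP
  push Not at hP
  obtain ⟨u, hu, huu, hup⟩ := hP
  have hu0 : u ≠ 0 := by
    rintro rfl
    apply hup 0
    simp
  intro x hx hxx
  by_cases hx0 : x = 0
  · exact ⟨0, by rw [hx0]; simp⟩
  refine mem_span_of_TS2 hG.nondeg hG.dim hx hx0 fun z hz => ?_
  obtain ⟨v, huv, hv⟩ : ∃ v, TS2 Q u v ∧ polar Q v (a u) ≠ 0 := by
    by_contra hcon
    push Not at hcon
    obtain ⟨c, hc⟩ := mem_span_of_TS2 hG.nondeg hG.dim hu hu0 hcon
    exact hup c hc
  obtain ⟨w, hw, hw0⟩ := extend_perp hG.nondeg hd huv hv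
  obtain ⟨y, hy⟩ := hz.extend hG.nondeg hd
  have hT := hy.swap23
  have h1 := hW u v w x y z hw hT
  have e1 := sigma_zero h2 hG hd hW hb hw.left huu
  have e2 := sigma_zero h2 hG hd hW hb hw.outer huu
  have f1 := sigma_zero h2 hG hd hW.symm ha hT.left hxx
  have f2 := sigma_zero h2 hG hd hW.symm ha hT.outer hxx
  rw [hw0, add_zero] at e2
  have e1' : polar Q u (a v) = -polar Q v (a u) := by linear_combination e1
  have f1' : polar Q x (b y) = -polar Q y (b x) := by linear_combination f1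
  have f2' : polar Q x (b z) = -polar Q z (b x) := by linear_combination f2
  unfold D12 Dm at h1
  rw [huu, hxx, e2, hw0, e1', f1', f2'] at h1
  have h3 : (2 * (polar Q v (a u) * polar Q z (b x))) ^ 2 = 0 := by
    linear_combination h1
  have h4 := (mul_eq_zero.1 ((pow_eq_zero_iff two_ne_zero).1 h3)).resolve_left h2
  exact (mul_eq_zero.1 h4).resolve_left hv

/-- (3a) -/
theorem disc_zero (hG : Good Q) (hd : 7 ≤ finrank F V) {b : V ≃ₗ[F] V} (hbO : b ∈ O Q)
    (hW : Weak Q a (b : V →ₗ[F] V)) (ha : ¬ NoN Q a) {z x y : V} (h : TS3 Q z x y) {l : F} (hz : b z = l • z) :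
    (polar Q x (b y) + polar Q y (b x)) ^ 2 = 4 * polar Q x (b x) * polar Q y (b y) := by
  unfold NoN at ha
  push Not at ha
  obtain ⟨u, hu, huu⟩ := ha
  have hu0 : u ≠ 0 := by
    rintro rfl
    apply huu
    rw [polar_zero_left]
  obtain ⟨v, hv⟩ := exists_TS2 hG.nondeg hG.dim hu hu0
  obtain ⟨w, hw⟩ := hv.extend hG.nondeg hd
  have hz0 := h.left.ne_left
  have hl : l ≠ 0 := by
    rintro rfl
    rw [zero_smul] at hz
    exact hz0 ((map_eq_zero_iff b b.injective).1 hz)
  have hzb : ∀ t, polar Q z t = 0 → polar Q z (b t) = 0 := by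
    intro t ht
    have h1 := polar_map hbO z t
    rw [hz, polar_smul_left, ht, smul_eq_mul] at h1
    exact (mul_eq_zero.1 h1).resolve_left hl
  have hbz : ∀ t, polar Q z t = 0 → polar Q t (b z) = 0 := by
    intro t ht
    rw [hz, polar_smul_right, polar_comm Q t z, ht, smul_zero]
  have g0 : polar Q z ((b : V →ₗ[F] V) z) = 0 := hzb z (polar_self_of_sing h.hu)
  have g1 : polar Q z ((b : V →ₗ[F] V) x) = 0 := hzb x h.huv
  have g2 : polar Q z ((b : V →ₗ[F] V) y) = 0 := hzb y h.huw
  have g3 : polar Q x ((b : V →ₗ[F] V) z) = 0 := hbz x h.huv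
  have g4 : polar Q y ((b : V →ₗ[F] V) z) = 0 := hbz y h.huw
  have h1 := hW u v w z x y hw h
  unfold D12 Dm at h1
  rw [g0, g1, g2, g3, g4] at h1
  have h3 : (polar Q u (a u)) ^ 2 * ((polar Q x ((b : V →ₗ[F] V) y) + polar Q y ((b : V →ₗ[F] V) x)) ^ 2 -
      4 * polar Q x ((b : V →ₗ[F] V) x) * polar Q y ((b : V →ₗ[F] V) y)) = 0 := by
    linear_combination h1
  have h4 := (mul_eq_zero.1 h3).resolve_left (pow_ne_zero 2 huu)
  exact sub_eq_zero.1 h4

/-- (3c) -/
theorem symm_of_eigen {b : V ≃ₗ[F] V} (hbO : b ∈ O Q) {x y : V} (h : TS2 Q x y) {α β l : F}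
    (h0 : ¬ (α = 0 ∧ β = 0)) (hz : b (α • x + β • y) = l • (α • x + β • y)) :
    polar Q y (b x) = polar Q x (b y) := by
  have hl : l ≠ 0 := by
    rintro rfl
    rw [zero_smul] at hz
    exact h0 (h.ind _ _ ((map_eq_zero_iff b b.injective).1 hz))
  have hxx := polar_self_of_sing h.hu
  have hyy := polar_self_of_sing h.hv
  have hyx := h.swap.huv
  have hzb : ∀ t, polar Q (α • x + β • y) t = 0 → polar Q (α • x + β • y) (b t) = 0 := by
    intro t ht
    have h1 := polar_map hbO (α • x + β • y) t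
    rw [hz, polar_smul_left, ht, smul_eq_mul] at h1
    exact (mul_eq_zero.1 h1).resolve_left hl
  have k1 := hzb x (by
    rw [polar_add_left, polar_smul_left, polar_smul_left, hxx, hyx]; simp)
  have k2 := hzb y (by
    rw [polar_add_left, polar_smul_left, polar_smul_left, hyy, h.huv]; simp)
  rw [polar_add_left, polar_smul_left, polar_smul_left, smul_eq_mul, smul_eq_mul] at k1 k2
  have k3 : polar Q x (b (α • x + β • y)) = 0 := by
    rw [hz, polar_smul_right, polar_add_right, polar_smul_right, polar_smul_right, hxx, h.huv]; simp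
  have k4 : polar Q y (b (α • x + β • y)) = 0 := by
    rw [hz, polar_smul_right, polar_add_right, polar_smul_right, polar_smul_right, hyy, hyx]; simp
  rw [map_add, map_smul, map_smul, polar_add_right, polar_smul_right, polar_smul_right, smul_eq_mul,
    smul_eq_mul] at k3 k4
  have k5 : β * (polar Q y (b x) - polar Q x (b y)) = 0 := by linear_combination k1 - k3
  have k6 : α * (polar Q y (b x) - polar Q x (b y)) = 0 := by linear_combination k4 - k2
  by_contra hne
  have hne' := sub_ne_zero.2 hne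
  exact h0 ⟨(mul_eq_zero.1 k6).resolve_right hne', (mul_eq_zero.1 k5).resolve_right hne'⟩

/-- (3b) -/
theorem symm_of_NoP (h2 : (2 : F) ≠ 0) (hG : Good Q) (hd : 7 ≤ finrank F V) {b : V ≃ₗ[F] V} (hbO : b ∈ O Q)
    (hW : Weak Q a (b : V →ₗ[F] V)) (ha : ¬ NoN Q a) (hP : NoP Q (b : V →ₗ[F] V)) {x y : V} (h : TS2 Q x y) :
    polar Q y (b x) = polar Q x (b y) := by
  obtain ⟨w, hw⟩ := h.extend hG.nondeg hd
  -- binary case
  have hbin : ∀ α β : F, ¬ (α = 0 ∧ β = 0) → polar Q (α • x + β • y) (b (α • x + β • y)) = 0 →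
      polar Q y (b x) = polar Q x (b y) := by
    intro α β h0 hz
    obtain ⟨l, hl⟩ := hP (α • x + β • y) (by
      rw [Q_add, QuadraticMap.map_smul, QuadraticMap.map_smul, polar_smul_left, polar_smul_right, h.hu, h.hv, h.huv]
      simp) hz
    exact symm_of_eigen hbO h h0 hl
  obtain ⟨t, ht0, ht⟩ := exists_ternary_zero (polar Q x (b x)) (polar Q y (b y)) (polar Q w (b w))
    (polar Q x (b y) + polar Q y (b x)) (polar Q x (b w) + polar Q w (b x)) (polar Q y (b w) + polar Q w (b y))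
  set z := t 0 • x + t 1 • y + t 2 • w with hz
  have hzs : Q z = 0 := by
    rw [hz, Q_add, Q_add, QuadraticMap.map_smul, QuadraticMap.map_smul, QuadraticMap.map_smul, polar_add_left]
    simp only [polar_smul_left, polar_smul_right, h.hu, h.hv, hw.hw, h.huv, hw.huw, hw.hvw]
    simp
  have hzb : polar Q z (b z) = 0 := by
    rw [← ht, hz]
    simp only [map_add, map_smul, polar_add_left, polar_add_right, polar_smul_left, polar_smul_right,
      smul_eq_mul]
    ring
  by_cases ht2 : t 2 = 0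
  · refine hbin (t 0) (t 1) ?_ ?_
    · rintro ⟨h0, h1⟩
      apply ht0
      funext i
      fin_cases i
      · exact h0
      · exact h1
      · exact ht2
    · rw [hz, ht2, zero_smul, add_zero] at hzb
      exact hzb
  · obtain ⟨l, hl⟩ := hP z hzs hzb
    have hT : TS3 Q z x y := by
      have h1 := (hw.smul_third ht2).add_third (t 0) (t 1)
      have e : t 2 • w + t 0 • x + t 1 • y = z := by rw [hz]; module
      rw [e] at h1
      exact h1.swap23.swap12
    have h3 := disc_zero hG hd hbO hW ha hT hl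
    by_cases hx : polar Q x (b x) = 0
    · refine hbin 1 0 (by simp) ?_
      rw [one_smul, zero_smul, add_zero]
      exact hx
    · refine hbin (-(polar Q x (b y) + polar Q y (b x)) / (2 * polar Q x (b x))) 1 (by simp) ?_
      simp only [map_add, map_smul, polar_add_left, polar_add_right, polar_smul_left, polar_smul_right,
        smul_eq_mul, one_smul]
      field_simp
      linear_combination (-(1 : F)) * h3

end

end Cfsg.Agent.H445.AH
end

-- part: H445/AH/OInv
section
/-!
# S2451 (C), orthogonal groups in odd characteristic: involutions, the structure theorem (helper445)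

* `eg b ε` : the eigenspace; `perp_eg`, `nondegOn_eg`, `finrank_eg`, `exists_value_eg` for an involution `b`;
* `odd_struct` : if the weak identity holds for `a`, `b` in `E Q`, `dim V` even and at least `8`, then (up to the order of `a`, `b`)
  `NoN Q a` (so `a + a⁻¹` is a scalar) and `b² = 1`.
-/

set_option autoImplicit false
set_option linter.unusedSectionVars false

namespace Cfsg.Agent.H445.AH

open QuadraticMap Cfsg.Agent.LieClassical.OrthCore Cfsg.Agent.LieClassical.OrthTrans
  Cfsg.Agent.LieClassical.OrthFinite Cfsg.Agent.H883.Sub Module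

variable {F V : Type*} [Field F] [AddCommGroup V] [Module F V] {Q : QuadraticForm F V}

/-- the eigenspace of `b` for `ε` -/
def eg (b : V ≃ₗ[F] V) (ε : F) : Submodule F V := LinearMap.ker ((b : V →ₗ[F] V) - ε • LinearMap.id)

theorem mem_eg {b : V ≃ₗ[F] V} {ε : F} {v : V} : v ∈ eg b ε ↔ b v = ε • v := by
  rw [eg, LinearMap.mem_ker, LinearMap.sub_apply, sub_eq_zero]
  rfl

theorem fix_eq_eg (b : V ≃ₗ[F] V) : H890.SpParity.fix b = eg b 1 := by
  ext v
  rw [H890.SpParity.mem_fix, mem_eg, one_smul]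

theorem exists_value_perp [Finite F] [FiniteDimensional F V] (hQ : Nondeg Q) (U : Submodule F V)
    (hU : 2 * finrank F U + 2 ≤ finrank F V) {c : F} (hc : c ≠ 0) : ∃ y ∈ perp Q U, Q y = c := by
  refine exists_value_mem ?_ c hc
  have h1 : finrank F ↥(perp Q U ⊓ perp Q (perp Q U)) ≤ finrank F U := by
    rw [perp_perp hQ]
    exact Submodule.finrank_mono inf_le_right
  have hd := finrank_perp hQ U
  omega

theorem finrank_span_single_le (x : V) : finrank F (Submodule.span F ({x} : Set V)) ≤ 1 := by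
  have h := finrank_span_le_card (R := F) ({x} : Set V)
  simpa using h

section Inv

variable {b : V ≃ₗ[F] V} {ε : F}

theorem perp_eg (h2 : (2 : F) ≠ 0) (hQ : Nondeg Q) (hb : b ∈ O Q) (hsq : ∀ v, b (b v) = v) (hε : ε * ε = 1) :
    perp Q (eg b ε) = eg b (-ε) := by
  have hmem : ∀ y : V, y + ε • b y ∈ eg b ε := by
    intro y
    rw [mem_eg, map_add, map_smul, hsq, smul_add, smul_smul, hε, one_smul, add_comm]
  ext v
  constructor
  · intro hv
    have h0 : v + ε • b v = 0 := by
      apply hQ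
      intro y
      have h1 := mem_perp'.1 hv _ (hmem y)
      rw [polar_add_right, polar_smul_right] at h1
      rw [polar_add_left, polar_smul_left, ← polar_map hb (b v) y, hsq]
      exact h1
    rw [mem_eg, neg_smul]
    have h3 : b v = ε • (ε • b v) := by rw [smul_smul, hε, one_smul]
    rw [h3, eq_neg_of_add_eq_zero_right h0, smul_neg]
  · intro hv
    rw [mem_perp]
    intro w hw
    rw [mem_eg] at hv hw
    have h1 := polar_map hb w v
    rw [hv, hw, polar_smul_left, polar_smul_right, smul_eq_mul, smul_eq_mul] at h1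
    have h3 : 2 * polar Q w v = 0 := by linear_combination -h1 - polar Q w v * hε
    exact (mul_eq_zero.1 h3).resolve_left h2

theorem nondegOn_eg (h2 : (2 : F) ≠ 0) (hQ : Nondeg Q) (hb : b ∈ O Q) (hsq : ∀ v, b (b v) = v) (hε : ε * ε = 1) :
    NondegOn Q (eg b ε) := by
  intro y hy hy'
  have h1 : y ∈ perp Q (eg b ε) := mem_perp'.2 hy'
  rw [perp_eg h2 hQ hb hsq hε, mem_eg, mem_eg.1 hy, neg_smul] at h1
  have h3 : (2 * ε) • y = 0 := by
    have : (2 * ε) • y = ε • y - -(ε • y) := by module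
    rw [this, ← h1, sub_self]
  have hε0 : ε ≠ 0 := by
    rintro rfl
    simp at hε
  exact (smul_eq_zero.1 h3).resolve_left (mul_ne_zero h2 hε0)

theorem finrank_eg [FiniteDimensional F V] (h2 : (2 : F) ≠ 0) (hQ : Nondeg Q) (hb : b ∈ O Q) (hsq : ∀ v, b (b v) = v)
    (hε : ε * ε = 1) : finrank F (eg b ε) + finrank F (eg b (-ε)) = finrank F V := by
  rw [← perp_eg h2 hQ hb hsq hε]
  exact finrank_perp hQ _

theorem exists_value_eg [Finite F] [FiniteDimensional F V] (h2 : (2 : F) ≠ 0) (hQ : Nondeg Q) (hb : b ∈ O Q)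
    (hsq : ∀ v, b (b v) = v) (hε : ε * ε = 1) (hd : 2 ≤ finrank F (eg b ε)) {c : F} (hc : c ≠ 0) :
    ∃ y ∈ eg b ε, Q y = c := by
  refine exists_value_mem ?_ c hc
  have h1 : eg b ε ⊓ perp Q (eg b ε) = ⊥ := by
    rw [Submodule.eq_bot_iff]
    intro y hy
    exact nondegOn_eg h2 hQ hb hsq hε y hy.1 (mem_perp'.1 hy.2)
  rw [h1, finrank_bot]
  omega

theorem eg_ne_bot [FiniteDimensional F V] (h2 : (2 : F) ≠ 0) (hQ : Nondeg Q) (hb : b ∈ O Q) (hsq : ∀ v, b (b v) = v)
    (hε : ε * ε = 1) (hns : ∀ c : F, ∃ v, b v ≠ c • v) : 0 < finrank F (eg b ε) := by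
  rw [Nat.pos_iff_ne_zero]
  intro h0
  rw [Submodule.finrank_eq_zero] at h0
  have h1 : eg b (-ε) = ⊤ := by
    rw [← perp_eg h2 hQ hb hsq hε, h0]
    rw [eq_top_iff]
    intro v _
    rw [mem_perp]
    intro w hw
    rw [(Submodule.mem_bot F).1 hw, polar_zero_left]
  obtain ⟨v, hv⟩ := hns (-ε)
  have : v ∈ eg b (-ε) := by rw [h1]; trivial
  exact hv (mem_eg.1 this)

/-- the dimensions of the eigenspaces of an involution of `E Q` -/
theorem even_eg_neg [FiniteDimensional F V] (h2 : (2 : F) ≠ 0) (hQ : Nondeg Q) (hb : b ∈ E Q)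
    (hsq : ∀ v, b (b v) = v) : Even (finrank F (eg b (-1))) := by
  have h1 := H890.SpParity.even_E hQ hb
  rw [fix_eq_eg] at h1
  have h3 := finrank_eg h2 hQ (E_le_O hb) hsq (ε := 1) (by ring)
  rw [Nat.even_iff] at *
  omega

end Inv

section Struct

variable [Finite F] [FiniteDimensional F V]

/-- (4) -/
theorem inv_contra (h2 : (2 : F) ≠ 0) (hG : Good Q) (hd : 8 ≤ finrank F V) (hev : Even (finrank F V))
    {b : V ≃ₗ[F] V} (hb : b ∈ E Q) (hsq : ∀ v, b (b v) = v) (hns : ∀ c : F, ∃ v, b v ≠ c • v)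
    (hP : NoP Q (b : V →ₗ[F] V))
    (hdisc : ∀ (z x y : V) (l : F), TS3 Q z x y → b z = l • z →
      (polar Q x (b y) + polar Q y (b x)) ^ 2 = 4 * polar Q x (b x) * polar Q y (b y)) : False := by
  have hbO := E_le_O hb
  have hQ := hG.nondeg
  have hε1 : (1 : F) * 1 = 1 := by ring
  have hεm : (-1 : F) * (-1) = 1 := by ring
  -- one of the eigenspaces is anisotropic
  obtain ⟨ε, hε, hε', han⟩ : ∃ ε : F, ε * ε = 1 ∧ (ε = 1 ∨ ε = -1) ∧ ∀ v ∈ eg b ε, Q v = 0 → v = 0 := by
    by_contra hcon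
    push Not at hcon
    obtain ⟨p, hp, hp0, hpn⟩ := hcon 1 hε1 (Or.inl rfl)
    obtain ⟨m, hm, hm0, hmn⟩ := hcon (-1) hεm (Or.inr rfl)
    have hpm : polar Q p m = 0 := by
      have h1 : m ∈ perp Q (eg b 1) := by rw [perp_eg h2 hQ hbO hsq hε1]; exact hm
      exact mem_perp.1 h1 p hp
    rw [mem_eg] at hp hm
    have hbx : b (p + m) = p - m := by
      rw [map_add, hp, hm]
      module
    obtain ⟨c, hc⟩ := hP (p + m) (by rw [Q_add, hp0, hm0, hpm]; simp) (by
      show polar Q (p + m) (b (p + m)) = 0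
      rw [hbx, polar_add_left, polar_sub_right, polar_sub_right, polar_self_of_sing hp0, polar_self_of_sing hm0,
        hpm, polar_comm Q m p, hpm]
      simp)
    have hc' : b (p + m) = c • (p + m) := hc
    rw [hbx] at hc'
    have h3 : b (p - m) = c • (p - m) := by
      rw [hc', map_smul, hbx, hc']
    have h4 : b (p - m) = p + m := by
      rw [map_sub, hp, hm]
      module
    rw [h4] at h3
    -- p - m = c (p + m), p + m = c (p - m)
    have h5 : (2 * (1 - c)) • p = 0 := by
      have e : (2 * (1 - c)) • p = ((p - m) - c • (p + m)) + ((p + m) - c • (p - m)) := by module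
      rw [e, ← hc', ← h3, sub_self, sub_self, add_zero]
    have hc1 : c = 1 := by
      rcases smul_eq_zero.1 h5 with h | h
      · exact (sub_eq_zero.1 ((mul_eq_zero.1 h).resolve_left h2)).symm
      · exact absurd h hpn
    rw [hc1, one_smul] at hc'
    have h6 : (2 : F) • m = 0 := by
      have e : (2 : F) • m = (p + m) - (p - m) := by module
      rw [e, ← hc', sub_self]
    exact hmn ((smul_eq_zero.1 h6).resolve_left h2)
  set W := eg b ε with hW
  have hperp : perp Q W = eg b (-ε) := perp_eg h2 hQ hbO hsq hε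
  have hdim := finrank_eg h2 hQ hbO hsq hε
  have hWpos := eg_ne_bot h2 hQ hbO hsq hε hns
  have hevn := even_eg_neg h2 hQ hb hsq
  have hWev : Even (finrank F W) := by
    rcases hε' with rfl | rfl
    · rw [← hW] at hdim
      rw [Nat.even_iff] at *
      omega
    · exact hevn
  have hWle : finrank F W ≤ 2 := by
    by_contra hlt
    obtain ⟨w, hw, hw0, hQw⟩ := exists_sing_mem (Q := Q) W (by omega)
    exact hw0 (han w hw hQw)
  have hW2 : finrank F W = 2 := by
    rw [← hW] at hWpos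
    rw [Nat.even_iff] at hWev
    omega
  -- vectors of `W`
  obtain ⟨e, he, he0⟩ := (Submodule.ne_bot_iff W).1 (by
    intro h
    rw [h, finrank_bot] at hW2
    omega)
  have hQe : Q e ≠ 0 := fun h => he0 (han e he h)
  obtain ⟨f, hf, hf0⟩ := (Submodule.ne_bot_iff (W ⊓ LinearMap.ker (polarBilin Q e))).1 (by
    intro h
    have h1 := finrank_inf_polar (Q := Q) W e
    rw [h, finrank_bot] at h1
    omega)
  have hQf : Q f ≠ 0 := fun h => hf0 (han f hf.1 h)
  have hef : polar Q e f = 0 := hf.2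
  -- vectors of `W^⊥`
  obtain ⟨x', hx', hQx'⟩ := exists_value_perp hQ W (by omega) (neg_ne_zero.2 hQe)
  have hU2 : finrank F ↥(W ⊔ Submodule.span F {x'}) ≤ 3 := by
    have h1 := Submodule.finrank_add_le_finrank_add_finrank W (Submodule.span F {x'})
    have h3 : finrank F (Submodule.span F {x'}) ≤ 1 := finrank_span_single_le x'
    omega
  obtain ⟨y', hy', hQy'⟩ := exists_value_perp hQ (W ⊔ Submodule.span F {x'}) (by omega) (neg_ne_zero.2 hQf)
  have hU3 : finrank F ↥(W ⊔ Submodule.span F {x'} ⊔ Submodule.span F {y'}) ≤ 4 := by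
    have h1 := Submodule.finrank_add_le_finrank_add_finrank (W ⊔ Submodule.span F {x'}) (Submodule.span F {y'})
    have h3 : finrank F (Submodule.span F {y'}) ≤ 1 := finrank_span_single_le y'
    omega
  have hd3 := finrank_perp hQ (W ⊔ Submodule.span F {x'} ⊔ Submodule.span F {y'})
  obtain ⟨z, hz, hz0, hQz⟩ := exists_sing_mem (Q := Q) (perp Q (W ⊔ Submodule.span F {x'} ⊔ Submodule.span F {y'}))
    (by omega)
  have hyW : y' ∈ perp Q W := perp_anti le_sup_left hy'
  have hzW : z ∈ perp Q W := perp_anti (le_sup_left.trans le_sup_left) hz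
  have hx'y' : polar Q x' y' = 0 :=
    mem_perp.1 hy' x' (Submodule.mem_sup_right (Submodule.mem_span_singleton_self x'))
  have hzx : polar Q z x' = 0 :=
    mem_perp'.1 hz x' (Submodule.mem_sup_left (Submodule.mem_sup_right (Submodule.mem_span_singleton_self x')))
  have hzy : polar Q z y' = 0 :=
    mem_perp'.1 hz y' (Submodule.mem_sup_right (Submodule.mem_span_singleton_self y'))
  have hex : polar Q e x' = 0 := mem_perp.1 hx' e he
  have hey : polar Q e y' = 0 := mem_perp.1 hyW e he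
  have hfx : polar Q f x' = 0 := mem_perp.1 hx' f hf.1
  have hfy : polar Q f y' = 0 := mem_perp.1 hyW f hf.1
  have hze : polar Q z e = 0 := mem_perp'.1 hzW e he
  have hzf : polar Q z f = 0 := mem_perp'.1 hzW f hf.1
  have hbe : b e = ε • e := mem_eg.1 he
  have hbf : b f = ε • f := mem_eg.1 hf.1
  rw [hperp] at hx' hyW hzW
  have hbx : b x' = (-ε) • x' := mem_eg.1 hx'
  have hby : b y' = (-ε) • y' := mem_eg.1 hyW
  have hbz : b z = (-ε) • z := mem_eg.1 hzW
  have pee : polar Q e e = 2 * Q e := polar_self' e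
  have pff : polar Q f f = 2 * Q f := polar_self' f
  have pxx : polar Q x' x' = 2 * Q x' := polar_self' x'
  have pyy : polar Q y' y' = 2 * Q y' := polar_self' y'
  have hT : TS3 Q z (e + x') (f + y') := by
    refine ⟨?_, hQz, ?_, ?_, ?_, ?_, ?_⟩
    · intro α β γ h0
      have k1 : polar Q e (α • z + β • (e + x') + γ • (f + y')) = 0 := by rw [h0, polar_zero_right]
      have k2 : polar Q f (α • z + β • (e + x') + γ • (f + y')) = 0 := by rw [h0, polar_zero_right]
      simp only [polar_add_right, polar_smul_right, smul_eq_mul, polar_comm Q e z, polar_comm Q f z, hze, hzf, hex,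
        hey, hfx, hfy, hef, polar_comm Q f e, pee, pff] at k1 k2
      have hβ : β = 0 := by
        have : β * (2 * Q e) = 0 := by linear_combination k1
        exact (mul_eq_zero.1 this).resolve_right (mul_ne_zero h2 hQe)
      have hγ : γ = 0 := by
        have : γ * (2 * Q f) = 0 := by linear_combination k2
        exact (mul_eq_zero.1 this).resolve_right (mul_ne_zero h2 hQf)
      rw [hβ, hγ, zero_smul, zero_smul, add_zero, add_zero] at h0
      exact ⟨(smul_eq_zero.1 h0).resolve_right hz0, hβ, hγ⟩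
    · rw [Q_add, hQx', hex]
      ring
    · rw [Q_add, hQy', hfy]
      ring
    · rw [polar_add_right, hze, hzx, add_zero]
    · rw [polar_add_right, hzf, hzy, add_zero]
    · rw [polar_add_left, polar_add_right, polar_add_right, hef, hey, polar_comm Q x' f, hfx, hx'y']
      ring
  have h1 := hdisc z (e + x') (f + y') (-ε) hT hbz
  rw [map_add, map_add, hbe, hbf, hbx, hby] at h1
  simp only [polar_add_left, polar_add_right, polar_smul_right, smul_eq_mul, hef, hey, hex, hfx, hfy,
    polar_comm Q x' f, polar_comm Q x' e, polar_comm Q y' e, polar_comm Q y' f, polar_comm Q f e,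
    polar_comm Q y' x', hx'y', pee, pff, pxx, pyy, hQx', hQy'] at h1
  have h3 : (2 * 2 * 2 * 2 * 2 * 2 * (ε * ε)) * (Q e * Q f) = 0 := by linear_combination -h1
  rw [hε, mul_one] at h3
  rcases mul_eq_zero.1 h3 with h | h
  · exact (mul_ne_zero (mul_ne_zero (mul_ne_zero (mul_ne_zero (mul_ne_zero h2 h2) h2) h2) h2) h2) h
  · exact (mul_ne_zero hQe hQf) h

/-- the case `NoP Q b`, `¬ NoN Q a` -/
theorem struct_aux (h2 : (2 : F) ≠ 0) (hG : Good Q) (hd : 8 ≤ finrank F V) (hev : Even (finrank F V))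
    {a : V →ₗ[F] V} {b : V ≃ₗ[F] V} (hb : b ∈ E Q) (hnsb : ∀ c : F, ∃ v, b v ≠ c • v)
    (hW : Weak Q a (b : V →ₗ[F] V)) (ha : ¬ NoN Q a) (hP : NoP Q (b : V →ₗ[F] V)) : False := by
  have hbO := E_le_O hb
  have h1 : ∀ u v, TS2 Q u v → polar Q v (b u) = polar Q u (b v) := fun u v huv =>
    symm_of_NoP h2 hG (by omega) hbO hW ha hP huv
  have hsq := sq_of_symm h2 hG hbO h1
  exact inv_contra h2 hG hd hev hb hsq hnsb hP fun z x y l hT hl => disc_zero hG (by omega) hbO hW ha hT hl

/-- **The structure theorem.** -/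
theorem odd_struct (h2 : (2 : F) ≠ 0) (hG : Good Q) (hd : 8 ≤ finrank F V) (hev : Even (finrank F V))
    {a b : V ≃ₗ[F] V} (ha : a ∈ E Q) (hb : b ∈ E Q) (hnsa : ∀ c : F, ∃ v, a v ≠ c • v)
    (hnsb : ∀ c : F, ∃ v, b v ≠ c • v) (hW : Weak Q (a : V →ₗ[F] V) (b : V →ₗ[F] V)) :
    (NoN Q (a : V →ₗ[F] V) ∧ ∀ v, b (b v) = v) ∨ (NoN Q (b : V →ₗ[F] V) ∧ ∀ v, a (a v) = v) := by
  by_cases hNa : NoN Q (a : V →ₗ[F] V)
  · exact Or.inl ⟨hNa, sq_of_symm h2 hG (E_le_O hb) fun u v huv => symm_of_NoN hG (by omega) hW hNa hnsa huv⟩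
  by_cases hNb : NoN Q (b : V →ₗ[F] V)
  · exact Or.inr ⟨hNb, sq_of_symm h2 hG (E_le_O ha) fun u v huv => symm_of_NoN hG (by omega) hW.symm hNb hnsb huv⟩
  exfalso
  by_cases hPb : NoP Q (b : V →ₗ[F] V)
  · exact struct_aux h2 hG hd hev hb hnsb hW hNa hPb
  · have hPa := NoP_of_P h2 hG (by omega) hW.symm hNb hNa hPb
    exact struct_aux h2 hG hd hev ha hnsa hW.symm hNb hPa

end Struct

end Cfsg.Agent.H445.AH
end

-- part: H445/AH/OFin
section
/-!
# S2451 (C), orthogonal groups in odd characteristic: the end (helper445)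

`AllU Q a b` : all the products `a (g b g⁻¹)`, `g ∈ E Q`, are `± unipotent`.

* `even_odd` : contradiction in even dimension `≥ 8`;
* `omega_odd` : contradiction in odd dimension `≥ 7`.
-/

set_option autoImplicit false
set_option linter.unusedSectionVars false

namespace Cfsg.Agent.H445.AH

open QuadraticMap Cfsg.Agent.LieClassical.OrthCore Cfsg.Agent.LieClassical.OrthTrans
  Cfsg.Agent.LieClassical.OrthFinite Cfsg.Agent.H883.Sub Module

variable {F V : Type*} [Field F] [AddCommGroup V] [Module F V] {Q : QuadraticForm F V}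

/-! ### Unipotent elements up to sign -/

/-- the linear map of an automorphism -/
def toEnd (z : V ≃ₗ[F] V) : Module.End F V := (z : V →ₗ[F] V)

theorem toEnd_mul (y z : V ≃ₗ[F] V) : toEnd (y * z) = toEnd y * toEnd z := rfl

theorem toEnd_one : toEnd (1 : V ≃ₗ[F] V) = 1 := rfl

/-- `z` is `ε` times unipotent -/
def Uni (z : V ≃ₗ[F] V) (ε : F) : Prop := IsNilpotent (toEnd z - ε • (1 : Module.End F V))

/-- all products are unipotent up to sign -/
def AllU (Q : QuadraticForm F V) (a b : V ≃ₗ[F] V) : Prop :=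
  ∀ g ∈ E Q, ∃ ε : F, (ε = 1 ∨ ε = -1) ∧ Uni (a * (g * b * g⁻¹)) ε

theorem Uni.conj {z : V ≃ₗ[F] V} {ε : F} (h : Uni z ε) (y : V ≃ₗ[F] V) : Uni (y * z * y⁻¹) ε := by
  obtain ⟨k, hk⟩ := h
  refine ⟨k, ?_⟩
  have e1 : toEnd y * toEnd y⁻¹ = 1 := by rw [← toEnd_mul, mul_inv_cancel, toEnd_one]
  have e2 : toEnd y⁻¹ * toEnd y = 1 := by rw [← toEnd_mul, inv_mul_cancel, toEnd_one]
  have h1 : ∀ n : ℕ, (toEnd y * (toEnd z - ε • (1 : Module.End F V)) * toEnd y⁻¹) ^ n =
      toEnd y * (toEnd z - ε • (1 : Module.End F V)) ^ n * toEnd y⁻¹ := by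
    intro n
    induction n with
    | zero => rw [pow_zero, pow_zero, mul_one, e1]
    | succ n ih =>
      rw [pow_succ, ih, pow_succ]
      calc toEnd y * (toEnd z - ε • (1 : Module.End F V)) ^ n * toEnd y⁻¹ *
            (toEnd y * (toEnd z - ε • (1 : Module.End F V)) * toEnd y⁻¹)
          = toEnd y * (toEnd z - ε • (1 : Module.End F V)) ^ n * (toEnd y⁻¹ * toEnd y) *
            (toEnd z - ε • (1 : Module.End F V)) * toEnd y⁻¹ := by simp only [mul_assoc]
        _ = _ := by rw [e2, mul_one]; simp only [mul_assoc]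
  have e3 : toEnd (y * z * y⁻¹) - ε • (1 : Module.End F V) =
      toEnd y * (toEnd z - ε • (1 : Module.End F V)) * toEnd y⁻¹ := by
    rw [toEnd_mul, toEnd_mul, mul_sub, sub_mul, mul_smul_comm, mul_one, smul_mul_assoc, e1]
  rw [e3, h1, hk, mul_zero, zero_mul]

theorem AllU.symm {a b : V ≃ₗ[F] V} (h : AllU Q a b) : AllU Q b a := by
  intro g hg
  obtain ⟨ε, hε, hu⟩ := h g⁻¹ ((E Q).inv_mem hg)
  refine ⟨ε, hε, ?_⟩
  have h1 := hu.conj (g * a⁻¹)
  have e : g * a⁻¹ * (a * (g⁻¹ * b * g⁻¹⁻¹)) * (g * a⁻¹)⁻¹ = b * (g * a * g⁻¹) := by group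
  rwa [e] at h1

theorem eq_zero_of_nilp {n : Module.End F V} (hn : IsNilpotent n) {c0 c1 : F} (hc : c0 ≠ 0) {v : V}
    (h : n (n v) + c1 • n v + c0 • v = 0) : v = 0 := by
  have hc' : Commute n (n + c1 • (1 : Module.End F V)) := by
    refine (Commute.refl n).add_right ?_
    exact (Commute.one_right n).smul_right c1
  obtain ⟨k, hk⟩ := hc'.isNilpotent_mul_right hn
  have h1 : (n * (n + c1 • (1 : Module.End F V))) v = (-c0) • v := by
    show n ((n + c1 • (1 : Module.End F V)) v) = _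
    rw [LinearMap.add_apply, LinearMap.smul_apply, Module.End.one_apply, map_add, map_smul, neg_smul]
    exact eq_neg_of_add_eq_zero_left h
  have h2 : ∀ j : ℕ, ((n * (n + c1 • (1 : Module.End F V))) ^ j) v = (-c0) ^ j • v := by
    intro j
    induction j with
    | zero => simp
    | succ j ih =>
      rw [pow_succ', Module.End.mul_apply, ih, map_smul, h1, smul_smul, pow_succ]
  have h3 := h2 k
  rw [hk, LinearMap.zero_apply] at h3
  exact (smul_eq_zero.1 h3.symm).resolve_left (pow_ne_zero k (neg_ne_zero.2 hc))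

/-- eigenvalues -/
theorem Uni.eigen {z : V ≃ₗ[F] V} {ε l : F} (h : Uni z ε) {w : V} (hw : w ≠ 0) (hz : z w = l • w) : l = ε := by
  by_contra hne
  apply hw
  have hn : (toEnd z - ε • (1 : Module.End F V)) w = (l - ε) • w := by
    rw [LinearMap.sub_apply, LinearMap.smul_apply, Module.End.one_apply, sub_smul, ← hz]
    rfl
  refine eq_zero_of_nilp h (c1 := 0) (c0 := -((l - ε) * (l - ε))) ?_ (v := w) ?_
  · exact neg_ne_zero.2 (mul_ne_zero (sub_ne_zero.2 hne) (sub_ne_zero.2 hne))
  · rw [hn, map_smul, hn]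
    module

/-- quadratic relations -/
theorem Uni.quad {z : V ≃ₗ[F] V} {ε κ : F} (h : Uni z ε) (hε : ε * ε = 1) {w : V} (hw : w ≠ 0)
    (hz : z (z w) = κ • z w - w) : κ = 2 * ε := by
  by_contra hne
  apply hw
  have hn : ∀ v, (toEnd z - ε • (1 : Module.End F V)) v = z v - ε • v := fun v => rfl
  have hε0 : ε ≠ 0 := by
    rintro rfl
    simp at hε
  refine eq_zero_of_nilp h (c1 := -(κ - 2 * ε)) (c0 := -((κ - 2 * ε) * ε)) ?_ (v := w) ?_
  · exact neg_ne_zero.2 (mul_ne_zero (sub_ne_zero.2 hne) hε0)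
  · rw [hn, hn, map_sub, map_smul, hz]
    have e : (κ • z w - w - ε • z w - ε • (z w - ε • w) + -(κ - 2 * ε) • (z w - ε • w) + -((κ - 2 * ε) * ε) • w) =
        (ε * ε - 1) • w := by module
    rw [e, hε, sub_self, zero_smul]

theorem Uni.trace [FiniteDimensional F V] {a b : V ≃ₗ[F] V} {ε : F} (h : Uni (a * b) ε) :
    tr2 a b = ε * (finrank F V : F) := by
  have h1 := LinearMap.isNilpotent_trace_of_isNilpotent h
  have h2 := h1.eq_zero
  rw [map_sub, map_smul, LinearMap.trace_one, smul_eq_mul, sub_eq_zero] at h2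
  rw [← h2]
  rfl

section Fin

variable [Finite F] [FiniteDimensional F V]

theorem AllU.weak (h2 : (2 : F) ≠ 0) (hG : Good Q) (hd : 8 ≤ finrank F V) {a b : V ≃ₗ[F] V} (h : AllU Q a b) :
    Weak Q (a : V →ₗ[F] V) (b : V →ₗ[F] V) := by
  intro u v w x y z h1 h3
  refine weak_id h2 hG hd (n := (finrank F V : F)) ?_ h1 h3
  intro g hg
  obtain ⟨ε, hε, hu⟩ := h g hg
  rw [hu.trace]
  rcases hε with rfl | rfl
  · left
    ring
  · right
    ring

/-- quadratic equation of `a` -/
theorem kappa_apply {a : V ≃ₗ[F] V} {κ : F} (h : ∀ v, a v + a⁻¹ v = κ • v) (v : V) : a (a v) = κ • a v - v := by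
  have h1 := h (a v)
  have h3 : a⁻¹ (a v) = v := LinearEquiv.symm_apply_apply a v
  rw [h3] at h1
  rw [← h1]
  abel

theorem polar_kappa {a : V ≃ₗ[F] V} (ha : a ∈ O Q) {κ : F} (h : ∀ v, a v + a⁻¹ v = κ • v) (u v : V) :
    polar Q u (a v) + polar Q (a u) v = κ * polar Q u v := by
  rw [← polar_inv ha, ← polar_add_right, h, polar_smul_right, smul_eq_mul]

/-- the range of `a - e` is totally singular if `κ = 2 e` -/
theorem range_sing (h2 : (2 : F) ≠ 0) {a : V ≃ₗ[F] V} (ha : a ∈ O Q) {e : F} (he : e * e = 1)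
    (h : ∀ v, a v + a⁻¹ v = (2 * e) • v) :
    ∀ w ∈ LinearMap.range ((a : V →ₗ[F] V) - e • LinearMap.id), Q w = 0 := by
  rintro _ ⟨u, rfl⟩
  have e1 : ((a : V →ₗ[F] V) - e • (LinearMap.id : V →ₗ[F] V)) u = a u - e • u := rfl
  rw [e1]
  have h1 : 2 * Q (a u - e • u) = 0 := by
    rw [← polar_self', polar_sub_left, polar_sub_right, polar_sub_right, polar_map ha, polar_smul_right,
      polar_smul_left, polar_smul_left, polar_smul_right]
    have h3 := polar_kappa ha h u u
    simp only [smul_eq_mul]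
    linear_combination (-e) * h3 - (polar Q u u) * he
  exact (mul_eq_zero.1 h1).resolve_left h2

theorem finrank_ker_range (a : V ≃ₗ[F] V) (e : F) :
    finrank F (LinearMap.range ((a : V →ₗ[F] V) - e • LinearMap.id)) + finrank F (eg a e) = finrank F V :=
  LinearMap.finrank_range_add_finrank_ker _

/-- case `κ ≠ ± 2` -/
theorem final_kappa (h2 : (2 : F) ≠ 0) (hG : Good Q) (hd : 8 ≤ finrank F V)
    {a b : V ≃ₗ[F] V} (ha : a ∈ O Q) (hb : b ∈ O Q) (hsq : ∀ v, b (b v) = v) {κ : F}
    (hκ : ∀ v, a v + a⁻¹ v = κ • v) (hk1 : κ ≠ 2) (hk2 : κ ≠ -2) (h : AllU Q a b) : False := by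
  have hQ := hG.nondeg
  have hκκ : κ * κ ≠ 4 := by
    intro h4
    have : (κ - 2) * (κ + 2) = 0 := by linear_combination h4
    rcases mul_eq_zero.1 this with h | h
    · exact hk1 (sub_eq_zero.1 h)
    · exact hk2 (eq_neg_of_add_eq_zero_left h)
  obtain ⟨ε, hε, hε', hdim⟩ : ∃ ε : F, ε * ε = 1 ∧ (ε = 1 ∨ ε = -1) ∧ 4 ≤ finrank F (eg b ε) := by
    have h3 := finrank_eg h2 hQ hb hsq (ε := 1) (by ring)
    by_cases h4 : 4 ≤ finrank F (eg b 1)
    · exact ⟨1, by ring, Or.inl rfl, h4⟩
    · exact ⟨-1, by ring, Or.inr rfl, by omega⟩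
  obtain ⟨v, -, hv⟩ := exists_value_perp hQ (⊥ : Submodule F V) (by rw [finrank_bot]; omega) (one_ne_zero (α := F))
  obtain ⟨x, hx, hQx⟩ := exists_value_eg h2 hQ hb hsq hε (by omega) (one_ne_zero (α := F))
  have hxx : polar Q x x = 2 := by rw [polar_self', hQx, mul_one]
  have hvv : polar Q v v = 2 := by rw [polar_self', hv, mul_one]
  set Y := eg b ε ⊓ LinearMap.ker (polarBilin Q x) with hY
  have hYd := finrank_inf_polar (Q := Q) (eg b ε) x
  rw [← hY] at hYd
  have hYr : Y ⊓ perp Q Y = ⊥ := by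
    rw [Submodule.eq_bot_iff]
    intro y hy
    refine nondegOn_eg h2 hQ hb hsq hε y hy.1.1 fun w hw => ?_
    have hw' : w - (polar Q x w * 2⁻¹) • x ∈ Y := by
      refine ⟨Submodule.sub_mem _ hw (Submodule.smul_mem _ _ hx), ?_⟩
      rw [SetLike.mem_coe, LinearMap.mem_ker]
      show polar Q x _ = 0
      rw [polar_sub_right, polar_smul_right, hxx, smul_eq_mul, mul_assoc, inv_mul_cancel₀ h2, mul_one, sub_self]
    have h3 := mem_perp'.1 hy.2 _ hw'
    have h4 : polar Q y x = 0 := by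
      rw [polar_comm]
      exact hy.1.2
    rw [polar_sub_right, polar_smul_right, h4, smul_zero, sub_zero] at h3
    exact h3
  have hκ2 : κ = 2 * (κ / 2) := by field_simp
  have hc : 1 - κ / 2 * (κ / 2) ≠ 0 := by
    intro h0
    apply hκκ
    linear_combination (-4 : F) * h0 + (κ + 2 * (κ / 2)) * hκ2
  obtain ⟨y', hy', hQy'⟩ := exists_value_mem (Q := Q) (Y := Y) (by
    rw [hYr, finrank_bot]
    omega) _ hc
  have hxy' : polar Q x y' = 0 := hy'.2
  have hby' : b y' = ε • y' := mem_eg.1 hy'.1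
  have hbx : b x = ε • x := mem_eg.1 hx
  set y := (κ / 2) • x + y' with hy
  have hQy : Q y = 1 := by
    rw [hy, Q_add, QuadraticMap.map_smul, polar_smul_left, hQx, hQy', hxy', smul_eq_mul, smul_eq_mul]
    ring
  have hxy : polar Q x y = κ := by
    rw [hy, polar_add_right, polar_smul_right, hxx, hxy', smul_eq_mul]
    linear_combination -hκ2
  have hby : b y = ε • y := by rw [hy, map_add, map_smul, hbx, hby', smul_add, smul_comm]
  have hyy : polar Q y y = 2 := by rw [polar_self', hQy, mul_one]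
  have hvav : polar Q v (a v) = κ := by
    have h3 := polar_kappa ha hκ v v
    rw [polar_comm Q (a v) v, hvv] at h3
    have h4 : 2 * (polar Q v (a v) - κ) = 0 := by linear_combination h3
    exact sub_eq_zero.1 ((mul_eq_zero.1 h4).resolve_left h2)
  have haa : polar Q (a v) (a v) = 2 := by rw [polar_map ha, hvv]
  have hli : ∀ s t : V, polar Q s s = 2 → polar Q t t = 2 → polar Q s t = κ → LinearIndependent F ![s, t] := by
    intro s t hs ht hst
    rw [LinearIndependent.pair_iff]
    intro α β h0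
    have k1 : polar Q s (α • s + β • t) = 0 := by rw [h0, polar_zero_right]
    have k2 : polar Q t (α • s + β • t) = 0 := by rw [h0, polar_zero_right]
    rw [polar_add_right, polar_smul_right, polar_smul_right, hs, hst, smul_eq_mul, smul_eq_mul] at k1
    rw [polar_add_right, polar_smul_right, polar_smul_right, ht, polar_comm Q t s, hst, smul_eq_mul,
      smul_eq_mul] at k2
    have h4 : (4 - κ * κ) ≠ 0 := by
      intro h4
      exact hκκ (sub_eq_zero.1 h4).symm
    constructor
    · have : (4 - κ * κ) * α = 0 := by linear_combination 2 * k1 - κ * k2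
      exact (mul_eq_zero.1 this).resolve_left h4
    · have : (4 - κ * κ) * β = 0 := by linear_combination 2 * k2 - κ * k1
      exact (mul_eq_zero.1 this).resolve_left h4
  obtain ⟨g, hg, hgx⟩ := exists_E_family hG ![x, y] ![v, a v] (hli x y hxx hyy hxy) (hli v (a v) hvv haa hvav)
    (by
      intro i
      fin_cases i
      · show Q x = Q v
        rw [hQx, hv]
      · show Q y = Q (a v)
        rw [hQy, mem_O.1 ha, hv])
    (by
      intro i j
      fin_cases i <;> fin_cases j
      · show polar Q x x = polar Q v v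
        rw [hxx, hvv]
      · show polar Q x y = polar Q v (a v)
        rw [hxy, hvav]
      · show polar Q y x = polar Q (a v) v
        rw [polar_comm Q y x, polar_comm Q (a v) v, hxy, hvav]
      · show polar Q y y = polar Q (a v) (a v)
        rw [hyy, haa])
    (by omega)
  have hg0 : g x = v := hgx 0
  have hg1 : g y = a v := hgx 1
  have hgi0 : g⁻¹ v = x := by rw [← hg0]; exact LinearEquiv.symm_apply_apply g x
  have hgi1 : g⁻¹ (a v) = y := by rw [← hg1]; exact LinearEquiv.symm_apply_apply g y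
  obtain ⟨δ, hδ, hu⟩ := h g hg
  have hδδ : δ * δ = 1 := by rcases hδ with rfl | rfl <;> ring
  have hz0 : (a * (g * b * g⁻¹)) v = ε • a v := by
    show a (g (b (g⁻¹ v))) = _
    rw [hgi0, hbx, map_smul, hg0, map_smul]
  have hz1 : (a * (g * b * g⁻¹)) (a v) = ε • a (a v) := by
    show a (g (b (g⁻¹ (a v)))) = _
    rw [hgi1, hby, map_smul, hg1, map_smul]
  have hv0 : v ≠ 0 := by
    rintro rfl
    rw [QuadraticMap.map_zero] at hv
    exact zero_ne_one hv
  have h5 := hu.quad hδδ hv0 (κ := κ * ε) (by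
    rw [hz0, map_smul, hz1, smul_smul, hε, one_smul, kappa_apply hκ, smul_smul, mul_assoc, hε, mul_one])
  rcases hε' with rfl | rfl <;> rcases hδ with rfl | rfl
  · exact hk1 (by linear_combination h5)
  · exact hk2 (by linear_combination h5)
  · exact hk2 (by linear_combination -h5)
  · exact hk1 (by linear_combination -h5)

/-- **The case `κ = ± 2`.** -/
theorem final_two (h2 : (2 : F) ≠ 0) (hG : Good Q) (hd : 8 ≤ finrank F V)
    {a b : V ≃ₗ[F] V} (ha : a ∈ O Q) (hnsa : ∀ c : F, ∃ v, a v ≠ c • v) (hb : b ∈ O Q)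
    (hsm : 2 ≤ finrank F (eg b 1) ∧ 2 ≤ finrank F (eg b (-1)))
    (hsq : ∀ v, b (b v) = v) {e : F} (he : e * e = 1) (hκ : ∀ v, a v + a⁻¹ v = (2 * e) • v) (h : AllU Q a b) :
    False := by
  have hQ := hG.nondeg
  have hε1 : (1 : F) * 1 = 1 := by ring
  have hsum := finrank_eg h2 hQ hb hsq hε1
  obtain ⟨ε, hε, hbig, hsm'⟩ : ∃ ε : F, ε * ε = 1 ∧ 3 ≤ finrank F (eg b (-ε)) ∧ 2 ≤ finrank F (eg b ε) := by
    by_cases h1 : 3 ≤ finrank F (eg b 1)
    · refine ⟨-1, by ring, ?_, hsm.2⟩
      rw [neg_neg]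
      exact h1
    · exact ⟨1, hε1, by omega, hsm.1⟩
  -- `A = a - e`
  have hA2 : ∀ v, a (a v - e • v) = e • (a v - e • v) := by
    intro v
    rw [map_sub, map_smul, kappa_apply hκ]
    have e1 : (2 * e) • a v - v - e • a v - e • (a v - e • v) = (e * e - 1) • v := by module
    rw [he, sub_self, zero_smul, sub_eq_zero] at e1
    exact e1
  have hskew : ∀ v w, polar Q v (a w - e • w) = -polar Q (a v - e • v) w := by
    intro v w
    have h3 := polar_kappa ha hκ v w
    rw [polar_sub_right, polar_sub_left, polar_smul_right, polar_smul_left]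
    simp only [smul_eq_mul]
    linear_combination h3
  obtain ⟨v, hv0, hQv⟩ : ∃ v, a v - e • v ≠ 0 ∧ Q v ≠ 0 := by
    by_contra hcon
    push Not at hcon
    obtain ⟨v0, hv0⟩ := hnsa e
    have hv0' : a v0 - e • v0 ≠ 0 := sub_ne_zero.2 hv0
    apply hv0'
    apply hQ
    intro w
    have hk : ∀ c : F, a (v0 + c • (a w - e • w)) - e • (v0 + c • (a w - e • w)) ≠ 0 := by
      intro c
      have e1 : a (v0 + c • (a w - e • w)) - e • (v0 + c • (a w - e • w)) = a v0 - e • v0 := by
        rw [map_add, map_smul, hA2]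
        module
      rw [e1]
      exact hv0'
    have k0 := hcon v0 hv0'
    have k1 := hcon _ (hk 1)
    have k2 := hcon _ (hk (-1))
    rw [Q_add, QuadraticMap.map_smul, polar_smul_right, k0] at k1 k2
    simp only [smul_eq_mul] at k1 k2
    have k3 : 2 * polar Q v0 (a w - e • w) = 0 := by linear_combination k1 - k2
    have k4 := (mul_eq_zero.1 k3).resolve_left h2
    rw [hskew] at k4
    exact neg_eq_zero.1 k4
  set A := a v - e • v with hA
  have hAv : a v = e • v + A := by rw [hA]; module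
  have hAA : a A = e • A := hA2 v
  have hQA : Q A = 0 := range_sing h2 ha he hκ A ⟨v, rfl⟩
  have hvA : polar Q v A = 0 := by
    have k1 := hskew v v
    rw [← hA, polar_comm Q A v] at k1
    have k2 : 2 * polar Q v A = 0 := by linear_combination k1
    exact (mul_eq_zero.1 k2).resolve_left h2
  have hv : v ≠ 0 := by
    rintro rfl
    exact hQv (QuadraticMap.map_zero Q)
  obtain ⟨x', hx', hx'0, hQx'⟩ := exists_sing_mem (Q := Q) (eg b (-ε)) hbig
  obtain ⟨x, hx, hQx⟩ := exists_value_eg h2 hQ hb hsq hε hsm' hQv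
  have hxx' : polar Q x x' = 0 := by
    have k1 : x' ∈ perp Q (eg b ε) := by rw [perp_eg h2 hQ hb hsq hε]; exact hx'
    exact mem_perp.1 k1 x hx
  have hli : ∀ s t : V, Q s ≠ 0 → t ≠ 0 → Q t = 0 → polar Q s t = 0 → LinearIndependent F ![s, t] := by
    intro s t hs ht hQt hst
    rw [LinearIndependent.pair_iff]
    intro α β h0
    have k1 : polar Q s (α • s + β • t) = 0 := by rw [h0, polar_zero_right]
    rw [polar_add_right, polar_smul_right, polar_smul_right, hst, polar_self'] at k1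
    simp only [smul_eq_mul] at k1
    have hα : α = 0 := by
      have : α * (2 * Q s) = 0 := by linear_combination k1
      exact (mul_eq_zero.1 this).resolve_right (mul_ne_zero h2 hs)
    rw [hα, zero_smul, zero_add] at h0
    exact ⟨hα, (smul_eq_zero.1 h0).resolve_right ht⟩
  have hQx0 : Q x ≠ 0 := by rw [hQx]; exact hQv
  obtain ⟨g, hg, hgx⟩ := exists_E_family hG ![x, x'] ![v, A] (hli x x' hQx0 hx'0 hQx' hxx')
    (hli v A hQv hv0 hQA hvA)
    (by
      intro i
      fin_cases i
      · show Q x = Q v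
        rw [hQx]
      · show Q x' = Q A
        rw [hQx', hQA])
    (by
      intro i j
      fin_cases i <;> fin_cases j
      · show polar Q x x = polar Q v v
        rw [polar_self', polar_self', hQx]
      · show polar Q x x' = polar Q v A
        rw [hxx', hvA]
      · show polar Q x' x = polar Q A v
        rw [polar_comm Q x' x, polar_comm Q A v, hxx', hvA]
      · show polar Q x' x' = polar Q A A
        rw [polar_self', polar_self', hQx', hQA])
    (by omega)
  have hg0 : g x = v := hgx 0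
  have hg1 : g x' = A := hgx 1
  have hgi0 : g⁻¹ v = x := by rw [← hg0]; exact LinearEquiv.symm_apply_apply g x
  have hgi1 : g⁻¹ A = x' := by rw [← hg1]; exact LinearEquiv.symm_apply_apply g x'
  obtain ⟨δ, hδ, hu⟩ := h g hg
  have hδδ : δ * δ = 1 := by rcases hδ with rfl | rfl <;> ring
  have hδ0 : δ ≠ 0 := by
    rintro rfl
    simp at hδδ
  have hz0 : (a * (g * b * g⁻¹)) v = (ε * e) • v + ε • A := by
    show a (g (b (g⁻¹ v))) = _
    rw [hgi0, mem_eg.1 hx, map_smul, hg0, map_smul, hAv]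
    module
  have hz1 : (a * (g * b * g⁻¹)) A = (-(ε * e)) • A := by
    show a (g (b (g⁻¹ A))) = _
    rw [hgi1, mem_eg.1 hx', map_smul, hg1, map_smul, hAA]
    module
  -- `z (z v) = v`
  have hzz : (a * (g * b * g⁻¹)) ((ε * e) • v + ε • A) = v := by
    rw [map_add, map_smul, map_smul, hz0, hz1]
    have e1 : (ε * e) • ((ε * e) • v + ε • A) + ε • -(ε * e) • A = ((ε * ε) * (e * e)) • v := by module
    rw [e1, hε, he, mul_one, one_smul]
  -- `w = z v - δ v`
  by_cases hw : (ε * e) • v + ε • A - δ • v = 0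
  · -- then `A` is a multiple of `v`
    apply hv0
    have k1 : polar Q v ((ε * e) • v + ε • A - δ • v) = 0 := by rw [hw, polar_zero_right]
    rw [polar_sub_right, polar_add_right, polar_smul_right, polar_smul_right, polar_smul_right, hvA,
      polar_self'] at k1
    simp only [smul_eq_mul] at k1
    have k2 : (ε * e - δ) * (2 * Q v) = 0 := by linear_combination k1
    have k3 : ε * e - δ = 0 := (mul_eq_zero.1 k2).resolve_right (mul_ne_zero h2 hQv)
    have k4 : ε • A = 0 := by
      have e1 : ε • A = ((ε * e) • v + ε • A - δ • v) - (ε * e - δ) • v := by module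
      rw [e1, hw, k3, zero_smul, sub_zero]
    have hε0 : ε ≠ 0 := by
      rintro rfl
      simp at hε
    exact (smul_eq_zero.1 k4).resolve_left hε0
  · have k1 := hu.eigen hw (l := -δ) (by
      rw [map_sub, map_smul, hzz, hz0]
      have e1 : v - δ • ((ε * e) • v + ε • A) - (-δ) • ((ε * e) • v + ε • A - δ • v) = (1 - δ * δ) • v := by module
      rw [hδδ, sub_self, zero_smul, sub_eq_zero] at e1
      exact e1)
    have k2 : 2 * δ = 0 := by linear_combination -k1
    exact mul_ne_zero h2 hδ0 k2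

/-- **The end in even dimension.** -/
theorem final_even (h2 : (2 : F) ≠ 0) (hG : Good Q) (hd : 8 ≤ finrank F V) (hev : Even (finrank F V))
    {a b : V ≃ₗ[F] V} (ha : a ∈ O Q) (hb : b ∈ E Q) (hnsa : ∀ c : F, ∃ v, a v ≠ c • v)
    (hnsb : ∀ c : F, ∃ v, b v ≠ c • v)
    (hN : NoN Q (a : V →ₗ[F] V)) (hsq : ∀ v, b (b v) = v) (h : AllU Q a b) : False := by
  have hQ := hG.nondeg
  have hbO := E_le_O hb
  obtain ⟨κ, hκ⟩ := kappa_of_NoN hG ha hN
  by_cases hk : κ ≠ 2 ∧ κ ≠ -2
  · exact final_kappa h2 hG hd ha hbO hsq hκ hk.1 hk.2 h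
  obtain ⟨e, he, hκe⟩ : ∃ e : F, e * e = 1 ∧ κ = 2 * e := by
    by_cases h1 : κ = 2
    · exact ⟨1, by ring, by rw [h1, mul_one]⟩
    · refine ⟨-1, by ring, ?_⟩
      by_contra h3
      exact hk ⟨h1, fun h4 => h3 (by rw [h4]; ring)⟩
  rw [hκe] at hκ
  have hε1 : (1 : F) * 1 = 1 := by ring
  have hsum := finrank_eg h2 hQ hbO hsq hε1
  have hevn := even_eg_neg h2 hQ hb hsq
  have hpos1 := eg_ne_bot h2 hQ hbO hsq hε1 hnsb
  have hpos2 := eg_ne_bot h2 hQ hbO hsq (ε := -1) (by ring) hnsb
  refine final_two h2 hG hd ha hnsa hbO ?_ hsq he hκ h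
  rw [Nat.even_iff] at hev hevn
  constructor <;> omega

/-- **Even dimension, odd characteristic.** -/
theorem even_odd (h2 : (2 : F) ≠ 0) (hG : Good Q) (hd : 8 ≤ finrank F V) (hev : Even (finrank F V))
    {a b : V ≃ₗ[F] V} (ha : a ∈ E Q) (hb : b ∈ E Q) (hnsa : ∀ c : F, ∃ v, a v ≠ c • v)
    (hnsb : ∀ c : F, ∃ v, b v ≠ c • v) (h : AllU Q a b) : False := by
  rcases odd_struct h2 hG hd hev ha hb hnsa hnsb (h.weak h2 hG hd) with ⟨h1, h3⟩ | ⟨h1, h3⟩
  · exact final_even h2 hG hd hev (E_le_O ha) hb hnsa hnsb h1 h3 h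
  · exact final_even h2 hG hd hev (E_le_O hb) ha hnsb hnsa h1 h3 h.symm

/-! ### Odd dimension -/

theorem sign_one (h2 : (2 : F) ≠ 0) (hQ : Nondeg Q) (hodd : Odd (finrank F V)) {z : V ≃ₗ[F] V} (hz : z ∈ E Q)
    {ε : F} (h : Uni z ε) : ε = 1 := by
  have h1 := H890.SpParity.even_E hQ hz
  obtain ⟨w, hw, hw0⟩ := (Submodule.ne_bot_iff (H890.SpParity.fix z)).1 (by
    intro hbot
    rw [hbot, finrank_bot, zero_add] at h1
    exact (Nat.not_even_iff_odd.2 hodd) h1)
  exact (h.eigen hw0 (l := 1) (by rw [H890.SpParity.mem_fix.1 hw, one_smul])).symm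

/-- the case `NoN Q a` in odd dimension -/
theorem omega_aux (h2 : (2 : F) ≠ 0) (hG : Good Q) (hodd : Odd (finrank F V))
    {a b : V ≃ₗ[F] V} (ha : a ∈ E Q) (hb : b ∈ E Q) (hnsa : ∀ c : F, ∃ v, a v ≠ c • v)
    (hnsb : ∀ c : F, ∃ v, b v ≠ c • v) (h : AllU Q a b) (hN : NoN Q (a : V →ₗ[F] V))
    (hid : ∀ u v x y : V, TS2 Q u v → TS2 Q x y →
      polar Q x (b y) * polar Q u (a v) + polar Q y (b x) * polar Q v (a u) = 0) : False := by
  have hQ := hG.nondeg
  have haO := E_le_O ha
  have hbO := E_le_O hb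
  obtain ⟨u, v, huv, hv⟩ := exists_P_of_NoN hG (a := (a : V →ₗ[F] V)) hnsa
  have hv' : polar Q v (a u) ≠ 0 := hv
  have hsk : polar Q u (a v) + polar Q v (a u) = 0 := hN.skew huv
  have hsq : ∀ v, b (b v) = v := by
    refine sq_of_symm h2 hG hbO fun x y hxy => ?_
    have h1 := hid u v x y huv hxy
    have h3 : polar Q v (a u) * (polar Q y (b x) - polar Q x (b y)) = 0 := by
      linear_combination h1 - polar Q x (b y) * hsk
    exact sub_eq_zero.1 ((mul_eq_zero.1 h3).resolve_left hv')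
  obtain ⟨κ, hκ⟩ := kappa_of_NoN hG haO hN
  -- `κ = 2`
  have hκ2 : κ = 2 * 1 := by
    have h1 := H890.SpParity.even_E hQ ha
    obtain ⟨w, hw, hw0⟩ := (Submodule.ne_bot_iff (H890.SpParity.fix a)).1 (by
      intro hbot
      rw [hbot, finrank_bot, zero_add] at h1
      exact (Nat.not_even_iff_odd.2 hodd) h1)
    have h3 := kappa_apply hκ w
    rw [H890.SpParity.mem_fix.1 hw, H890.SpParity.mem_fix.1 hw] at h3
    have h4 : (κ - 2 * 1) • w = 0 := by
      have e : (κ - 2 * 1) • w = (κ • w - w) - w := by module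
      rw [e, ← h3, sub_self]
    exact sub_eq_zero.1 ((smul_eq_zero.1 h4).resolve_right hw0)
  rw [hκ2] at hκ
  have hr := S0760.two_mul_finrank_le Q (nondegenerate_of_nondeg hQ) _ (range_sing h2 haO (by ring) hκ)
  have hkr := finrank_ker_range a 1
  obtain ⟨w1, hw1, hQw1⟩ : ∃ w ∈ eg a 1, Q w ≠ 0 := by
    by_contra hcon
    push Not at hcon
    have h5 := S0760.two_mul_finrank_le Q (nondegenerate_of_nondeg hQ) _ hcon
    rw [Nat.odd_iff] at hodd
    omega
  have hevn := even_eg_neg h2 hQ hb hsq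
  have hpos2 := eg_ne_bot h2 hQ hbO hsq (ε := -1) (by ring) hnsb
  obtain ⟨x, hx, hQx⟩ := exists_value_eg h2 hQ hbO hsq (ε := -1) (by ring) (by
    rw [Nat.even_iff] at hevn
    omega) hQw1
  have hw10 : w1 ≠ 0 := by
    rintro rfl
    exact hQw1 (QuadraticMap.map_zero Q)
  have hx0 : x ≠ 0 := by
    rintro rfl
    rw [QuadraticMap.map_zero] at hQx
    exact hQw1 hQx.symm
  obtain ⟨g, hg, hgx⟩ := hG.trans_norm hx0 hw10 hQx
  have hgi : g⁻¹ w1 = x := by rw [← hgx]; exact LinearEquiv.symm_apply_apply g x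
  obtain ⟨δ, -, hu⟩ := h g hg
  have hzE : a * (g * b * g⁻¹) ∈ E Q := E_mul ha (E_mul (E_mul hg hb) ((E Q).inv_mem hg))
  have hδ := sign_one h2 hQ hodd hzE hu
  have k1 := hu.eigen hw10 (l := -1) (by
    show a (g (b (g⁻¹ w1))) = _
    rw [hgi, mem_eg.1 hx, map_smul, hgx, map_smul, mem_eg.1 hw1, one_smul])
  rw [hδ] at k1
  apply h2
  linear_combination -k1

/-- **Odd dimension.** -/
theorem omega_odd (h2 : (2 : F) ≠ 0) (hG : Good Q) (hd : 7 ≤ finrank F V) (hodd : Odd (finrank F V))
    {a b : V ≃ₗ[F] V} (ha : a ∈ E Q) (hb : b ∈ E Q) (hnsa : ∀ c : F, ∃ v, a v ≠ c • v)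
    (hnsb : ∀ c : F, ∃ v, b v ≠ c • v) (h : AllU Q a b) : False := by
  have hQ := hG.nondeg
  have hT : ∀ g ∈ E Q, tr2 a (g * b * g⁻¹) = (finrank F V : F) := by
    intro g hg
    obtain ⟨ε, -, hu⟩ := h g hg
    have hzE : a * (g * b * g⁻¹) ∈ E Q := E_mul ha (E_mul (E_mul hg hb) ((E Q).inv_mem hg))
    rw [hu.trace, sign_one h2 hQ hodd hzE hu, one_mul]
  have hD : ∀ u v x y : V, TS2 Q u v → TS2 Q x y →
      polar Q x (b y) * polar Q u (a v) - polar Q y (b y) * polar Q u (a u) -
        polar Q x (b x) * polar Q v (a v) + polar Q y (b x) * polar Q v (a u) = 0 := fun u v x y h1 h3 =>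
    const1 h2 hG (by omega) hT h1 h3
  have hD' : ∀ u v x y : V, TS2 Q u v → TS2 Q x y →
      polar Q x (b y) * polar Q u (a v) + polar Q y (b x) * polar Q v (a u) = 0 ∧
      polar Q y (b y) * polar Q u (a u) + polar Q x (b x) * polar Q v (a v) = 0 := by
    intro u v x y h1 h3
    have k1 := hD u v x y h1 h3
    have k2 := hD u v x ((-1 : F) • y) h1 (h3.smul_right (neg_ne_zero.2 one_ne_zero))
    rw [map_smul] at k2
    simp only [polar_smul_left, polar_smul_right, smul_eq_mul] at k2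
    constructor
    · have : 2 * (polar Q x (b y) * polar Q u (a v) + polar Q y (b x) * polar Q v (a u)) = 0 := by
        linear_combination k1 - k2
      exact (mul_eq_zero.1 this).resolve_left h2
    · have : 2 * (polar Q y (b y) * polar Q u (a u) + polar Q x (b x) * polar Q v (a v)) = 0 := by
        linear_combination -k1 - k2
      exact (mul_eq_zero.1 this).resolve_left h2
  have hAB : NoN Q (a : V →ₗ[F] V) ∨ NoN Q (b : V →ₗ[F] V) := by
    by_contra hcon
    push Not at hcon
    obtain ⟨hna, hnb⟩ := hcon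
    unfold NoN at hna hnb
    push Not at hna hnb
    obtain ⟨u, hu, huu⟩ := hna
    obtain ⟨x, hx, hxx⟩ := hnb
    have hu0 : u ≠ 0 := by
      rintro rfl
      apply huu
      rw [polar_zero_left]
    have hx0 : x ≠ 0 := by
      rintro rfl
      apply hxx
      rw [polar_zero_left]
    obtain ⟨v, huv⟩ := exists_TS2 hQ hG.dim hu hu0
    obtain ⟨y, hxy⟩ := exists_TS2 hQ hG.dim hx hx0
    have k0 := (hD' u v x y huv hxy).2
    have k1 := (hD' u v x (y + (1 : F) • x) huv (hxy.add_right 1)).2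
    have k2 := (hD' u v x (y + (-1 : F) • x) huv (hxy.add_right (-1))).2
    simp only [map_add, map_smul, polar_add_left, polar_add_right, polar_smul_left, polar_smul_right,
      smul_eq_mul] at k1 k2
    have k3 : 2 * (polar Q x (b x) * polar Q u (a u)) = 0 := by linear_combination k1 + k2 - 2 * k0
    exact mul_ne_zero hxx huu ((mul_eq_zero.1 k3).resolve_left h2)
  rcases hAB with hN | hN
  · exact omega_aux h2 hG hodd ha hb hnsa hnsb h hN fun u v x y h1 h3 => (hD' u v x y h1 h3).1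
  · refine omega_aux h2 hG hodd hb ha hnsb hnsa h.symm hN fun u v x y h1 h3 => ?_
    have := (hD' x y u v h3 h1).1
    linear_combination this

end Fin

end Cfsg.Agent.H445.AH
end

-- part: H445/AH/OTwo
section
/-!
# S2451 (C), orthogonal groups in characteristic two (helper445)

* `sigma_two` : `B(x, b z) + B(z, b x) = 0` for all totally singular pairs; `kappa_two` : `b + b⁻¹` is a scalar;
* `exists_P_two` : some singular point is moved to a perpendicular one;
* `even_two` : contradiction in even dimension `≥ 8`.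
-/

set_option autoImplicit false
set_option linter.unusedSectionVars false

namespace Cfsg.Agent.H445.AH

open QuadraticMap Cfsg.Agent.LieClassical.OrthCore Cfsg.Agent.LieClassical.OrthTrans
  Cfsg.Agent.LieClassical.OrthFinite Cfsg.Agent.H883.Sub Module

variable {F V : Type*} [Field F] [AddCommGroup V] [Module F V] {Q : QuadraticForm F V}

section Two

variable [Finite F] [FiniteDimensional F V]

/-- the identity for constant trace -/
def Zero12 (Q : QuadraticForm F V) (a b : V →ₗ[F] V) : Prop :=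
  ∀ u v w x y z : V, TS3 Q u v w → TS3 Q x y z → D12 Q a u v w b x y z = 0

theorem Zero12.symm {a b : V →ₗ[F] V} (h : Zero12 Q a b) : Zero12 Q b a := by
  intro u v w x y z h1 h2
  have e1 : D12 Q b u v w a x y z = D12 Q a x y z b u v w := by
    unfold D12
    ring
  rw [e1]
  exact h x y z u v w h2 h1

variable {a b : V →ₗ[F] V}

theorem Zero12.mix (hQ : Nondeg Q) (hd : 7 ≤ finrank F V) (h : Zero12 Q a b) {u v x y : V} (huv : TS2 Q u v)
    (hxy : TS2 Q x y) : polar Q x (b x) * (polar Q u (a v) + polar Q v (a u)) =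
      polar Q u (a u) * (polar Q x (b y) + polar Q y (b x)) := by
  obtain ⟨w, hw⟩ := huv.extend hQ hd
  obtain ⟨z, hz⟩ := hxy.extend hQ hd
  have h1 := h u v w x y z hw hz
  have hz' := hz.add_third 1 0
  rw [zero_smul, add_zero] at hz'
  have h3 := h u v w x y _ hw hz'
  unfold D12 at h1 h3
  simp only [map_add, map_smul, polar_add_left, polar_add_right, polar_smul_left, polar_smul_right,
    smul_eq_mul] at h3
  linear_combination h3 - h1

theorem Zero12.prod (hQ : Nondeg Q) (hd : 7 ≤ finrank F V) (h : Zero12 Q a b) {u x y : V} (hu : Q u = 0)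
    (hxy : TS2 Q x y) : polar Q u (a u) * (polar Q x (b y) + polar Q y (b x)) = 0 := by
  by_cases hu0 : u = 0
  · rw [hu0, polar_zero_left, zero_mul]
  obtain ⟨v, huv⟩ := exists_TS2 hQ (by omega) hu hu0
  obtain ⟨z, hz⟩ := hxy.extend hQ hd
  have hyz := (hz.add_second 0 1).left
  rw [zero_smul, add_zero, one_smul] at hyz
  have k2 := h.mix hQ hd huv hz.outer
  have k3 := h.mix hQ hd huv hyz
  simp only [map_add, polar_add_left, polar_add_right] at k3
  linear_combination k2 - k3

theorem sigma_two (h2 : (2 : F) = 0) (hG : Good Q) (hd : 7 ≤ finrank F V) (h : Zero12 Q a b)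
    (hns : ∀ c : F, ∃ v, a v ≠ c • v) {x z : V} (hxz : TS2 Q x z) :
    polar Q x (b z) + polar Q z (b x) = 0 := by
  by_cases ha : NoN Q a
  · obtain ⟨u, v, huv, hv⟩ := exists_P_of_NoN hG hns
    obtain ⟨w, hw, hw0⟩ := extend_perp hG.nondeg hd huv hv
    obtain ⟨y, hy⟩ := hxz.extend hG.nondeg hd
    have h1 := h u v w x y z hw hy.swap23
    have e1 := ha.skew hw.left
    have e2 := ha.skew hw.outer
    have e3 := ha.skew hw.right
    have e4 := ha u hw.hu
    rw [hw0, add_zero] at e2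
    unfold D12 at h1
    rw [e2, e3, e4, hw0] at h1
    have h3 : polar Q v (a u) * (polar Q x (b z) + polar Q z (b x)) = 0 := by
      linear_combination h1 - (polar Q x (b z)) * e1 + (polar Q x (b z)) * polar Q v (a u) * h2
    exact (mul_eq_zero.1 h3).resolve_left hv
  · unfold NoN at ha
    push Not at ha
    obtain ⟨u, hu, huu⟩ := ha
    exact (mul_eq_zero.1 (h.prod hG.nondeg hd hu hxz)).resolve_left huu

theorem kappa_two (hG : Good Q) {b : V ≃ₗ[F] V} (hb : b ∈ O Q)
    (h : ∀ x z, TS2 Q x z → polar Q x (b z) + polar Q z (b x) = 0) : ∃ κ : F, ∀ v, b v + b⁻¹ v = κ • v := by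
  obtain ⟨c, hc⟩ := scalar_of_TS2 hG (n := (b : V →ₗ[F] V) + ((b⁻¹ : V ≃ₗ[F] V) : V →ₗ[F] V)) (by
    intro u v huv
    show polar Q v (b u + b⁻¹ u) = 0
    rw [polar_add_right, polar_inv hb, polar_comm Q (b v) u, add_comm]
    exact h u v huv)
  exact ⟨c, hc⟩

/-- **A vector moved to a perpendicular one.** -/
theorem exists_P_two (h2 : (2 : F) = 0) (hG : Good Q) (hd : 8 ≤ finrank F V) (hev : Even (finrank F V))
    {b : V ≃ₗ[F] V} (hb : b ∈ E Q) (hns : ∀ c : F, ∃ v, b v ≠ c • v) {κ : F} (hκ : ∀ v, b v + b⁻¹ v = κ • v) :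
    ∃ u, Q u = 0 ∧ polar Q u (b u) = 0 ∧ ∀ c : F, b u ≠ c • u := by
  by_contra hcon
  push Not at hcon
  have hQ := hG.nondeg
  have hbO := E_le_O hb
  have hch : CharP F 2 := CharTwo.of_one_ne_zero_of_two_eq_zero one_ne_zero h2
  have hsqrt : ∀ c : F, ∃ r : F, r * r = c := by
    intro c
    have := Fintype.ofFinite F
    obtain ⟨r, hr⟩ := FiniteField.isSquare_of_char_two (ringChar.eq_iff.2 hch) c
    exact ⟨r, hr.symm⟩
  let θ : V → F := fun v => polar Q v (b v) - κ * Q v
  have hθ : ∀ v, θ v = polar Q v (b v) - κ * Q v := fun v => rfl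
  have hadd : ∀ u v, θ (u + v) = θ u + θ v := by
    intro u v
    have h1 := polar_kappa hbO hκ u v
    rw [hθ, hθ, hθ, map_add, polar_add_left, polar_add_right, polar_add_right, Q_add]
    rw [polar_comm Q (b u) v] at h1
    linear_combination h1
  have hsm : ∀ (c : F) (v : V), θ (c • v) = c * c * θ v := by
    intro c v
    rw [hθ, hθ, map_smul, polar_smul_left, polar_smul_right, QuadraticMap.map_smul]
    simp only [smul_eq_mul]
    ring
  let W : Submodule F V :=
    { carrier := {v | θ v = 0}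
      add_mem' := by
        intro u v hu hv
        rw [Set.mem_ofPred_eq] at hu hv ⊢
        rw [hadd, hu, hv, add_zero]
      zero_mem' := by
        rw [Set.mem_ofPred_eq, hθ]
        simp
      smul_mem' := by
        intro c v hv
        rw [Set.mem_ofPred_eq] at hv ⊢
        rw [hsm, hv, mul_zero] }
  have hmem : ∀ v, v ∈ W ↔ θ v = 0 := fun v => Iff.rfl
  have hWd : finrank F V ≤ finrank F W + 1 := by
    by_cases hall : ∀ v, θ v = 0
    · have : W = ⊤ := by
        rw [eq_top_iff]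
        intro v _
        exact (hmem v).2 (hall v)
      rw [this, finrank_top]
      omega
    · push Not at hall
      obtain ⟨v1, hv1⟩ := hall
      have htop : W ⊔ Submodule.span F {v1} = ⊤ := by
        rw [eq_top_iff]
        intro v _
        obtain ⟨r, hr⟩ := hsqrt (θ v * (θ v1)⁻¹)
        have h3 : v + r • v1 ∈ W := by
          rw [hmem, hadd, hsm, hr, mul_assoc, inv_mul_cancel₀ hv1, mul_one]
          linear_combination (θ v) * h2
        have e : v = (v + r • v1) + (-r) • v1 := by module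
        rw [e]
        exact Submodule.add_mem_sup h3 (Submodule.smul_mem _ _ (Submodule.mem_span_singleton_self v1))
      have h1 := Submodule.finrank_add_le_finrank_add_finrank W (Submodule.span F {v1})
      have h3 := finrank_span_single_le (F := F) v1
      rw [htop, finrank_top] at h1
      omega
  -- singular vectors of `W` are eigenvectors
  have heig : ∀ x ∈ W, Q x = 0 → ∃ c : F, b x = c • x := by
    intro x hx hQx
    refine hcon x hQx ?_
    have h1 := (hmem x).1 hx
    rw [hθ, hQx, mul_zero, sub_zero] at h1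
    exact h1
  have hcmp : ∀ x ∈ W, ∀ y ∈ W, ∀ c d : F, Q x = 0 → Q y = 0 → polar Q x y = 0 →
      (∀ α β : F, α • x + β • y = 0 → α = 0 ∧ β = 0) → b x = c • x → b y = d • y → c = d := by
    intro x hx y hy c d hQx hQy hxy hind hc hd'
    obtain ⟨e, he⟩ := heig (x + y) (W.add_mem hx hy) (by rw [Q_add, hQx, hQy, hxy]; simp)
    rw [map_add, hc, hd'] at he
    have h3 : (c - e) • x + (d - e) • y = 0 := by
      have : (c - e) • x + (d - e) • y = (c • x + d • y) - e • (x + y) := by module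
      rw [this, he, sub_self]
    obtain ⟨k1, k2⟩ := hind _ _ h3
    linear_combination k1 - k2
  have hcmp2 : ∀ x ∈ W, ∀ y ∈ W, ∀ c d : F, Q x = 0 → Q y = 0 → x ≠ 0 → y ≠ 0 → b x = c • x → b y = d • y →
      c = d := by
    intro x hx y hy c d hQx hQy hx0 hy0 hc hd'
    set Y := W ⊓ LinearMap.ker (polarBilin Q x) ⊓ LinearMap.ker (polarBilin Q y) with hY
    have k1 := finrank_inf_polar (Q := Q) W x
    have k2 := finrank_inf_polar (Q := Q) (W ⊓ LinearMap.ker (polarBilin Q x)) y
    rw [← hY] at k2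
    have k3 : finrank F ↥(Y ⊓ (Submodule.span F {x} ⊔ Submodule.span F {y})) ≤ 2 := by
      have l1 : finrank F ↥(Y ⊓ (Submodule.span F {x} ⊔ Submodule.span F {y})) ≤
          finrank F ↥(Submodule.span F {x} ⊔ Submodule.span F {y}) := Submodule.finrank_mono inf_le_right
      have l2 := Submodule.finrank_add_le_finrank_add_finrank (Submodule.span F {x}) (Submodule.span F {y})
      have l3 := finrank_span_single_le (F := F) x
      have l4 := finrank_span_single_le (F := F) y
      omega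
    obtain ⟨z, hz, hzU, hQz⟩ := exists_compl_sing (Q := Q) Y (Submodule.span F {x} ⊔ Submodule.span F {y}) (by omega)
    have hxz : polar Q x z = 0 := hz.1.2
    have hyz : polar Q y z = 0 := hz.2
    have hzW : z ∈ W := hz.1.1
    obtain ⟨e, he⟩ := heig z hzW hQz
    have hind : ∀ t : V, t ≠ 0 → (∀ r : F, z ≠ r • t) → ∀ α β : F, α • t + β • z = 0 → α = 0 ∧ β = 0 := by
      intro t ht hzt α β h0
      have hβ : β = 0 := by
        by_contra hβ
        apply hzt (-(β⁻¹ * α))
        have l1 : β • z = (-α) • t := by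
          rw [neg_smul]
          exact eq_neg_of_add_eq_zero_right h0
        calc z = β⁻¹ • (β • z) := by rw [smul_smul, inv_mul_cancel₀ hβ, one_smul]
          _ = _ := by rw [l1, smul_smul]; congr 1; ring
      rw [hβ, zero_smul, add_zero] at h0
      exact ⟨(smul_eq_zero.1 h0).resolve_right ht, hβ⟩
    have k4 := hcmp x hx z hzW c e hQx hQz hxz (hind x hx0 (by
      rintro r rfl
      exact hzU (Submodule.mem_sup_left (Submodule.smul_mem _ _ (Submodule.mem_span_singleton_self x))))) hc he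
    have k5 := hcmp y hy z hzW d e hQy hQz hyz (hind y hy0 (by
      rintro r rfl
      exact hzU (Submodule.mem_sup_right (Submodule.smul_mem _ _ (Submodule.mem_span_singleton_self y))))) hd' he
    rw [k4, k5]
  -- a hyperbolic pair of `W`
  have hpd := finrank_perp hQ W
  obtain ⟨x, hx, hxP, hQx⟩ := exists_compl_sing (Q := Q) W (perp Q W) (by
    have k1 : finrank F ↥(W ⊓ perp Q W) ≤ finrank F (perp Q W) := Submodule.finrank_mono inf_le_right
    have k2 := Submodule.finrank_le W
    omega)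
  obtain ⟨y0, hy0, hxy0⟩ : ∃ y ∈ W, polar Q x y ≠ 0 := by
    by_contra hc
    push Not at hc
    exact hxP (mem_perp'.2 hc)
  set y1 := (polar Q x y0)⁻¹ • y0 with hy1
  have hy1W : y1 ∈ W := W.smul_mem _ hy0
  have hxy1 : polar Q x y1 = 1 := by
    rw [hy1, polar_smul_right, smul_eq_mul, inv_mul_cancel₀ hxy0]
  clear_value y1
  set y := y1 + (-Q y1) • x with hy
  have hyW : y ∈ W := W.add_mem hy1W (W.smul_mem _ hx)
  have hyp : Hyp Q x y := by
    refine ⟨hQx, ?_, ?_⟩
    · rw [hy, Q_add, QuadraticMap.map_smul, polar_smul_right, polar_comm Q y1 x, hxy1, hQx]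
      simp
    · rw [hy, polar_add_right, polar_smul_right, hxy1, polar_self_of_sing hQx]
      simp
  obtain ⟨l, hl⟩ := heig x hx hQx
  have hsame : ∀ s ∈ W, Q s = 0 → b s = l • s := by
    intro s hs hQs
    by_cases hs0 : s = 0
    · rw [hs0]; simp
    obtain ⟨c, hc⟩ := heig s hs hQs
    rw [hc, hcmp2 s hs x hx c l hQs hQx hs0 hyp.left_ne hc hl]
  have hl1 : l = 1 := by
    have k1 := polar_map hbO x y
    rw [hl, hsame y hyW hyp.right, polar_smul_left, polar_smul_right, hyp.pair] at k1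
    simp only [smul_eq_mul, mul_one] at k1
    have k2 : (l - 1) * (l - 1) = 0 := by linear_combination k1 + (1 - l) * h2
    exact sub_eq_zero.1 (mul_self_eq_zero.1 k2)
  have hWfix : W ≤ H890.SpParity.fix b := by
    intro v hv
    rw [H890.SpParity.mem_fix]
    set v' := LieClassical.OrthTrans.proj Q x y v with hv'
    have e : v = v' + polar Q y v • x + polar Q x v • y := by
      rw [hv', LieClassical.OrthTrans.proj]; module
    have hv'W : v' ∈ W := by
      rw [hv', LieClassical.OrthTrans.proj]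
      exact W.sub_mem (W.sub_mem hv (W.smul_mem _ hx)) (W.smul_mem _ hyW)
    have hxv' : polar Q x v' = 0 := polar_proj_left hyp v
    have hyv' : polar Q y v' = 0 := polar_proj_right hyp v
    have hs := sing_vec hyp hxv' hyv'
    have k1 := hsame _ (W.sub_mem (W.add_mem hx hv'W) (W.smul_mem _ hyW)) hs
    have k2 := hsame x hx hQx
    have k3 := hsame y hyW hyp.right
    rw [hl1, one_smul] at k1 k2 k3
    rw [map_sub, map_add, map_smul, k2, k3] at k1
    have k4 : b v' = v' := by
      have := add_left_cancel (sub_left_injective k1)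
      exact this
    rw [e, map_add, map_add, map_smul, map_smul, k4, k2, k3]
  have k5 := Submodule.finrank_mono hWfix
  have k6 := H890.SpParity.even_E hQ hb
  have k7 := Submodule.finrank_le (H890.SpParity.fix b)
  have k8 : H890.SpParity.fix b = ⊤ := by
    apply Submodule.eq_top_of_finrank_eq
    rw [Nat.even_iff] at hev k6
    omega
  obtain ⟨v, hv⟩ := hns 1
  apply hv
  rw [one_smul, ← H890.SpParity.mem_fix, k8]
  trivial

theorem TS2_of_P {b : V ≃ₗ[F] V} (hb : b ∈ O Q) {u : V} (hu : Q u = 0) (huu : polar Q u (b u) = 0)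
    (hns : ∀ c : F, b u ≠ c • u) : TS2 Q u (b u) := by
  have hu0 : u ≠ 0 := by
    rintro rfl
    exact hns 0 (by simp)
  refine ⟨?_, hu, by rw [mem_O.1 hb, hu], huu⟩
  intro α β h0
  have hβ : β = 0 := by
    by_contra hβ
    apply hns (-(β⁻¹ * α))
    have l1 : β • b u = (-α) • u := by
      rw [neg_smul]
      exact eq_neg_of_add_eq_zero_right h0
    calc b u = β⁻¹ • (β • b u) := by rw [smul_smul, inv_mul_cancel₀ hβ, one_smul]
      _ = _ := by rw [l1, smul_smul]; congr 1; ring
  rw [hβ, zero_smul, add_zero] at h0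
  exact ⟨(smul_eq_zero.1 h0).resolve_right hu0, hβ⟩

/-- an involution fixes a totally singular plane pointwise -/
theorem exists_fixed_TS2 (h2 : (2 : F) = 0) (hd : 8 ≤ finrank F V)
    {b : V ≃ₗ[F] V} (hb : b ∈ O Q) (hsq : ∀ v, b (b v) = v) : ∃ x y, TS2 Q x y ∧ b x = x ∧ b y = y := by
  set K := eg b 1 with hK
  set R := LinearMap.range ((b : V →ₗ[F] V) - (1 : F) • LinearMap.id) with hR
  have hKR : finrank F R + finrank F K = finrank F V := finrank_ker_range b 1
  have hRK : R ≤ K := by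
    rintro _ ⟨v, rfl⟩
    rw [hK, mem_eg]
    have e1 : ((b : V →ₗ[F] V) - (1 : F) • (LinearMap.id : V →ₗ[F] V)) v = b v - (1 : F) • v := rfl
    rw [e1, one_smul, one_smul, map_sub, hsq]
    have e : (v - b v) - (b v - v) = (2 : F) • (v - b v) := by module
    rw [h2, zero_smul, sub_eq_zero] at e
    exact e
  have hperp : ∀ r ∈ R, ∀ k ∈ K, polar Q r k = 0 := by
    rintro _ ⟨v, rfl⟩ k hk
    have e1 : ((b : V →ₗ[F] V) - (1 : F) • (LinearMap.id : V →ₗ[F] V)) v = b v - v := by
      rw [one_smul]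
      rfl
    rw [e1, polar_sub_left]
    rw [hK, mem_eg, one_smul] at hk
    nth_rewrite 1 [← hk]
    rw [polar_map hb, sub_self]
  have hle := Submodule.finrank_mono hRK
  have hfin : ∀ x ∈ K, x ≠ 0 → Q x = 0 → ∀ Y : Submodule F V, Y ≤ K → (∀ y ∈ Y, polar Q x y = 0) →
      4 ≤ finrank F Y → ∃ x y, TS2 Q x y ∧ b x = x ∧ b y = y := by
    intro x hx hx0 hQx Y hYK hY h4
    obtain ⟨y, hy, hyU, hQy⟩ := exists_compl_sing (Q := Q) Y (Submodule.span F {x}) (by
      have l1 : finrank F ↥(Y ⊓ Submodule.span F {x}) ≤ finrank F (Submodule.span F {x}) :=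
        Submodule.finrank_mono inf_le_right
      have l3 := finrank_span_single_le (F := F) x
      omega)
    refine ⟨x, y, ⟨?_, hQx, hQy, hY y hy⟩, ?_, ?_⟩
    · intro α β h0
      have hβ : β = 0 := by
        by_contra hβ
        apply hyU
        have l1 : β • y = (-α) • x := by
          rw [neg_smul]
          exact eq_neg_of_add_eq_zero_right h0
        have l2 : y = (-(β⁻¹ * α)) • x := by
          calc y = β⁻¹ • (β • y) := by rw [smul_smul, inv_mul_cancel₀ hβ, one_smul]
            _ = _ := by rw [l1, smul_smul]; congr 1; ring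
        rw [l2]
        exact Submodule.smul_mem _ _ (Submodule.mem_span_singleton_self x)
      rw [hβ, zero_smul, add_zero] at h0
      exact ⟨(smul_eq_zero.1 h0).resolve_right hx0, hβ⟩
    · have := mem_eg.1 hx
      rwa [one_smul] at this
    · have := mem_eg.1 (hYK hy)
      rwa [one_smul] at this
  by_cases h3 : 3 ≤ finrank F R
  · obtain ⟨x, hx, hx0, hQx⟩ := exists_sing_mem (Q := Q) R h3
    exact hfin x (hRK hx) hx0 hQx K le_rfl (fun y hy => hperp x hx y hy) (by omega)
  · obtain ⟨x, hx, hx0, hQx⟩ := exists_sing_mem (Q := Q) K (by omega)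
    have l1 := finrank_inf_polar (Q := Q) K x
    exact hfin x hx hx0 hQx (K ⊓ LinearMap.ker (polarBilin Q x)) inf_le_left (fun y hy => hy.2) (by omega)

/-- one of `κ_a`, `κ_b` is zero and the other one is not: impossible -/
theorem two_aux (h2 : (2 : F) = 0) (hG : Good Q) (hd : 8 ≤ finrank F V) (hev : Even (finrank F V))
    {a b : V ≃ₗ[F] V} (ha : a ∈ E Q) (hb : b ∈ E Q) (hnsa : ∀ c : F, ∃ v, a v ≠ c • v) (h : AllU Q a b)
    {κ : F} (hκ : ∀ v, a v + a⁻¹ v = κ • v) (hκ0 : κ ≠ 0) (hκb : ∀ v, b v + b⁻¹ v = (0 : F) • v) : False := by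
  have hQ := hG.nondeg
  have hsq : ∀ v, b (b v) = v := by
    intro v
    rw [kappa_apply hκb v, zero_smul, zero_sub]
    have e : -v - v = -((2 : F) • v) := by module
    rw [h2, zero_smul, neg_zero, sub_eq_zero] at e
    exact e
  obtain ⟨u, hu, huu, hup⟩ := exists_P_two h2 hG hd hev ha hnsa hκ
  have hu0 : u ≠ 0 := by
    rintro rfl
    exact hup 0 (by simp)
  obtain ⟨x, y, hxy, hbx, hby⟩ := exists_fixed_TS2 h2 hd (E_le_O hb) hsq
  obtain ⟨g, hg, hgx, hgy⟩ := trans2 hG (by omega) hxy (TS2_of_P (E_le_O ha) hu huu hup)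
  have hgi0 : g⁻¹ u = x := by rw [← hgx]; exact LinearEquiv.symm_apply_apply g x
  have hgi1 : g⁻¹ (a u) = y := by rw [← hgy]; exact LinearEquiv.symm_apply_apply g y
  obtain ⟨δ, hδ, hU⟩ := h g hg
  have hδδ : δ * δ = 1 := by rcases hδ with rfl | rfl <;> ring
  have hz0 : (a * (g * b * g⁻¹)) u = a u := by
    show a (g (b (g⁻¹ u))) = _
    rw [hgi0, hbx, hgx]
  have hz1 : (a * (g * b * g⁻¹)) (a u) = a (a u) := by
    show a (g (b (g⁻¹ (a u)))) = _
    rw [hgi1, hby, hgy]
  have h5 := hU.quad hδδ hu0 (κ := κ) (by rw [hz0, hz1, kappa_apply hκ])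
  apply hκ0
  rw [h5, h2, zero_mul]

/-- **Characteristic two, even dimension.** -/
theorem even_two (h2 : (2 : F) = 0) (hG : Good Q) (hd : 8 ≤ finrank F V) (hev : Even (finrank F V))
    {a b : V ≃ₗ[F] V} (ha : a ∈ E Q) (hb : b ∈ E Q) (hnsa : ∀ c : F, ∃ v, a v ≠ c • v)
    (hnsb : ∀ c : F, ∃ v, b v ≠ c • v) (h : AllU Q a b) : False := by
  have hQ := hG.nondeg
  have haO := E_le_O ha
  have hbO := E_le_O hb
  have hN : (finrank F V : F) = 0 := by
    obtain ⟨m, hm⟩ := hev
    rw [hm, ← two_mul, Nat.cast_mul, Nat.cast_two, h2, zero_mul]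
  have hT : ∀ g ∈ E Q, tr2 a (g * b * g⁻¹) = 0 := by
    intro g hg
    obtain ⟨ε, -, hu⟩ := h g hg
    rw [hu.trace, hN, mul_zero]
  have hZ : Zero12 Q (a : V →ₗ[F] V) (b : V →ₗ[F] V) := fun u v w x y z h1 h3 => const12 hG hd hT h1 h3
  obtain ⟨κb, hκb⟩ := kappa_two hG hbO fun x z hxz =>
    sigma_two h2 hG (by omega) hZ hnsa hxz
  obtain ⟨κa, hκa⟩ := kappa_two hG haO fun x z hxz =>
    sigma_two h2 hG (by omega) hZ.symm hnsb hxz
  by_cases ha0 : κa = 0
  · by_cases hb0 : κb = 0
    · -- two involutions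
      rw [ha0] at hκa
      rw [hb0] at hκb
      obtain ⟨u, hu, huu, hup⟩ := exists_P_two h2 hG hd hev ha hnsa hκa
      obtain ⟨x, hx, hxx, hxp⟩ := exists_P_two h2 hG hd hev hb hnsb hκb
      have hu0 : u ≠ 0 := by
        rintro rfl
        exact hup 0 (by simp)
      have hTu := (TS2_of_P haO hu huu hup).add_right 1
      rw [one_smul] at hTu
      obtain ⟨g, hg, hgx, hgy⟩ := trans2 hG (by omega) (TS2_of_P hbO hx hxx hxp) hTu
      have hgi0 : g⁻¹ u = x := by rw [← hgx]; exact LinearEquiv.symm_apply_apply g x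
      have hgi1 : g⁻¹ (a u) = b x - x := by
        have e : a u = g (b x - x) := by rw [map_sub, hgy, hgx]; abel
        rw [e]
        exact LinearEquiv.symm_apply_apply g _
      obtain ⟨δ, hδ, hU⟩ := h g hg
      have hδδ : δ * δ = 1 := by rcases hδ with rfl | rfl <;> ring
      have ka := kappa_apply hκa u
      have kb := kappa_apply hκb x
      rw [zero_smul, zero_sub] at ka kb
      have hz0 : (a * (g * b * g⁻¹)) u = a u - u := by
        show a (g (b (g⁻¹ u))) = _
        rw [hgi0, hgy, map_add, ka]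
        abel
      have hz1 : (a * (g * b * g⁻¹)) (a u) = u - (2 : F) • a u := by
        show a (g (b (g⁻¹ (a u)))) = _
        rw [hgi1, map_sub, kb, map_sub, map_neg, hgx, hgy, map_sub, map_neg, map_add, ka]
        module
      have h5 := hU.quad hδδ hu0 (κ := 1) (by
        rw [hz0, map_sub, hz0, hz1, h2, zero_smul, sub_zero, one_smul]
        have e : (u - (a u - u)) - (a u - u - u) = (2 : F) • (u + u - a u) := by module
        rw [h2, zero_smul, sub_eq_zero] at e
        exact e)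
      rw [h2, zero_mul] at h5
      exact one_ne_zero h5
    · rw [ha0] at hκa
      exact two_aux h2 hG hd hev hb ha hnsb h.symm hκb hb0 hκa
  · by_cases hb0 : κb = 0
    · rw [hb0] at hκb
      exact two_aux h2 hG hd hev ha hb hnsa h hκa ha0 hκb
    · obtain ⟨u, hu, huu, hup⟩ := exists_P_two h2 hG hd hev ha hnsa hκa
      obtain ⟨x, hx, hxx, hxp⟩ := exists_P_two h2 hG hd hev hb hnsb hκb
      have hu0 : u ≠ 0 := by
        rintro rfl
        exact hup 0 (by simp)
      obtain ⟨g, hg, hgx, hgy⟩ := trans2 hG (by omega) (TS2_of_P hbO hx hxx hxp) (TS2_of_P haO hu huu hup)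
      have hgi0 : g⁻¹ u = x := by rw [← hgx]; exact LinearEquiv.symm_apply_apply g x
      have hgi1 : g⁻¹ (a u) = b x := by rw [← hgy]; exact LinearEquiv.symm_apply_apply g _
      obtain ⟨δ, hδ, hU⟩ := h g hg
      have hδδ : δ * δ = 1 := by rcases hδ with rfl | rfl <;> ring
      have ka := kappa_apply hκa u
      have kb := kappa_apply hκb x
      have hz0 : (a * (g * b * g⁻¹)) u = κa • a u - u := by
        show a (g (b (g⁻¹ u))) = _
        rw [hgi0, hgy, ka]
      have hz1 : (a * (g * b * g⁻¹)) (a u) = κb • (κa • a u - u) - a u := by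
        show a (g (b (g⁻¹ (a u)))) = _
        rw [hgi1, kb, map_sub, map_smul, hgx, hgy, map_sub, map_smul, ka]
      have h5 := hU.quad hδδ hu0 (κ := κa * κb - 2) (by
        rw [hz0, map_sub, map_smul, hz0, hz1]
        module)
      rw [h2, zero_mul, sub_zero] at h5
      exact mul_ne_zero ha0 hb0 h5

end Two

end Cfsg.Agent.H445.AH
end

-- part: H445/AH/ORows
section
/-!
# S2451 (C), orthogonal groups (helper445): the rows

* `notC_of_good` : `NotC p (POmega F Q)` for a `Good` form of even dimension `≥ 8`, or odd dimension `≥ 7` (and `2 ≠ 0`);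
* `notC_podd`, `notC_pminus`, `notC_pplus` : the three families.
-/

set_option autoImplicit false
set_option linter.unusedSectionVars false

namespace Cfsg.Agent.H445.AH

open QuadraticMap Cfsg.Agent.LieClassical.OrthCore Cfsg.Agent.LieClassical.OrthTrans
  Cfsg.Agent.LieClassical.OrthFinite Cfsg.Agent.LieClassical.OrthForms Cfsg.Agent.H883.Sub Module
open Cfsg.Agent.TitsThree.KSideO (toPOmega toPOmega_surjective center_of_toPOmega scalar_of_center toOmega)
open Cfsg.Agent.H27.AH Cfsg.Agent.H330.ClassProd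

section Uni

variable {F V : Type*} [Field F] [AddCommGroup V] [Module F V] {Q : QuadraticForm F V}

theorem pm_pow (F : Type*) [Field F] (p : ℕ) [Fact p.Prime] [CharP F p] (k : ℕ) {c : F} (hc : c = 1 ∨ c = -1) :
    c ^ p ^ k = c := by
  rcases hc with rfl | rfl
  · exact one_pow _
  · have h := sub_pow_char_pow (p := p) (n := k) (0 : F) 1
    rw [zero_sub, one_pow, zero_pow (pow_ne_zero _ (Fact.out : p.Prime).ne_zero), zero_sub] at h
    exact h

theorem toEnd_pow (z : V ≃ₗ[F] V) (n : ℕ) : toEnd (z ^ n) = toEnd z ^ n := by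
  induction n with
  | zero => rfl
  | succ n ih => rw [pow_succ, pow_succ, toEnd_mul, ih]

/-- if a power `p ^ k` of `z` is `± 1`, then `z` is unipotent up to sign -/
theorem uni_of_pow [Nontrivial V] (p : ℕ) [Fact p.Prime] [CharP F p] {z : V ≃ₗ[F] V} {k : ℕ} {c : F}
    (hc : c = 1 ∨ c = -1) (h : ∀ v, (z ^ p ^ k) v = c • v) : Uni z c := by
  have : CharP (Module.End F V) p :=
    charP_of_injective_algebraMap (FaithfulSMul.algebraMap_injective F (Module.End F V)) p
  refine ⟨p ^ k, ?_⟩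
  have hcomm : Commute (toEnd z) (c • (1 : Module.End F V)) := (Commute.one_right _).smul_right c
  rw [sub_pow_char_pow_of_commute p k hcomm, ← toEnd_pow, smul_pow, one_pow, pm_pow F p k hc]
  ext v
  show (z ^ p ^ k) v - c • v = 0
  rw [h, sub_self]

end Uni

section Transfer

variable {ι : Type} [Fintype ι] [DecidableEq ι] {F : Type*} [Field F] {Q : QuadraticForm F (ι → F)}

theorem toPOmega_scalar (hG : Good Q) (k : E Q) {c : F} (h : ∀ v, (k : (ι → F) ≃ₗ[F] (ι → F)) v = c • v) :
    toPOmega hG k = 1 := by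
  show QuotientGroup.mk' (Subgroup.center (Cfsg.Omega F ⇑Q)) (toOmega hG k) = 1
  rw [QuotientGroup.mk'_apply, QuotientGroup.eq_one_iff, Subgroup.mem_center_iff]
  intro g
  obtain ⟨g, rfl⟩ := (toOmega hG).surjective g
  rw [← map_mul, ← map_mul]
  congr 1
  apply Subtype.ext
  ext1 v
  show (g : (ι → F) ≃ₗ[F] (ι → F)) ((k : (ι → F) ≃ₗ[F] (ι → F)) v) =
    (k : (ι → F) ≃ₗ[F] (ι → F)) ((g : (ι → F) ≃ₗ[F] (ι → F)) v)
  rw [h, h, map_smul]

/-- The transfer. -/
theorem allU_of_allConj (hG : Good Q) (p : ℕ) [Fact p.Prime] [CharP F p] {α β : E Q}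
    {c : Cfsg.POmega F ⇑Q} {k : ℕ} (h : AllConj (toPOmega hG α) (toPOmega hG β) c) (hc : orderOf c = p ^ k) :
    AllU Q α.1 β.1 := by
  intro g hg
  obtain ⟨t, ht⟩ := isConj_iff.1 (h 1 (toPOmega hG ⟨g, hg⟩))
  have h1 : toPOmega hG ((α * (⟨g, hg⟩ * β * ⟨g, hg⟩⁻¹)) ^ p ^ k) = 1 := by
    rw [map_pow, map_mul, map_mul, map_mul, map_inv]
    have e1 : toPOmega hG α * (toPOmega hG ⟨g, hg⟩ * toPOmega hG β * (toPOmega hG ⟨g, hg⟩)⁻¹) = t * c * t⁻¹ := by
      rw [ht, one_mul, inv_one, mul_one]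
    rw [e1, conj_pow, ← hc, pow_orderOf_eq_one, mul_one, mul_inv_cancel]
  obtain ⟨c', hc'⟩ := scalar_of_center hG (center_of_toPOmega hG h1)
  have hpm : c' = 1 ∨ c' = -1 := by
    obtain ⟨x, y, hxy⟩ := hG.exists_hyp
    have h1 : Q (x + y) = 1 := by rw [Q_add, hxy.left, hxy.right, hxy.pair]; ring
    have h2 := mem_O.1 (E_le_O ((α * (⟨g, hg⟩ * β * ⟨g, hg⟩⁻¹)) ^ p ^ k : E Q).2) (x + y)
    rw [hc', QuadraticMap.map_smul, h1, smul_eq_mul, mul_one] at h2
    exact mul_self_eq_one_iff.1 h2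
  obtain ⟨x, y, hxy⟩ := hG.exists_hyp
  have : Nontrivial (ι → F) := ⟨x, 0, by
    rintro rfl
    have h3 := hxy.pair
    rw [polar_zero_left] at h3
    exact zero_ne_one h3⟩
  refine ⟨c', hpm, uni_of_pow p hpm (k := k) ?_⟩
  intro v
  exact hc' v

/-- `NotC` for `POmega F Q` -/
theorem notC_of_good [Finite F] (hG : Good Q) (p : ℕ) [Fact p.Prime] [CharP F p]
    (hd : (8 ≤ finrank F (ι → F) ∧ Even (finrank F (ι → F))) ∨
      ((2 : F) ≠ 0 ∧ 7 ≤ finrank F (ι → F) ∧ Odd (finrank F (ι → F)))) : NotC p (Cfsg.POmega F ⇑Q) := by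
  intro a b c ha hb _ hab ⟨k, hk⟩
  obtain ⟨α, rfl⟩ := toPOmega_surjective hG a
  obtain ⟨β, rfl⟩ := toPOmega_surjective hG b
  have hU := allU_of_allConj hG p hab hk
  have hnsa : ∀ c : F, ∃ v, α.1 v ≠ c • v := by
    intro c
    by_contra hcon
    push Not at hcon
    exact ha (toPOmega_scalar hG α hcon)
  have hnsb : ∀ c : F, ∃ v, β.1 v ≠ c • v := by
    intro c
    by_contra hcon
    push Not at hcon
    exact hb (toPOmega_scalar hG β hcon)
  rcases hd with ⟨h8, hev⟩ | ⟨h2, h7, hodd⟩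
  · by_cases h2 : (2 : F) = 0
    · exact even_two h2 hG h8 hev α.2 β.2 hnsa hnsb hU
    · exact even_odd h2 hG h8 hev α.2 β.2 hnsa hnsb hU
  · exact omega_odd h2 hG h7 hodd α.2 β.2 hnsa hnsb hU

end Transfer

section Rows

theorem two_ne_zero_of_odd (F : Type*) [Field F] [Fintype F] (h : Odd (Fintype.card F)) : (2 : F) ≠ 0 := by
  intro h2
  have h3 : ringChar F = 2 := by
    have h4 : ringChar F ∣ 2 := (ringChar.spec F 2).1 (by exact_mod_cast h2)
    exact ((Nat.prime_dvd_prime_iff_eq (CharP.char_is_prime F (ringChar F)) Nat.prime_two).1 h4)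
  have h5 := FiniteField.even_card_of_char_two h3
  obtain ⟨k, hk⟩ := h
  omega

/-- `Ω_{2m+1}(q)`, `q` odd, `m ≥ 3` -/
theorem notC_podd (F : Type*) [Field F] [Fintype F] (p : ℕ) [CharP F p] (m : ℕ) (hm : 3 ≤ m)
    (ho : Odd (Fintype.card F)) : NotC p (Cfsg.POmega F (Cfsg.quadFormOdd m F)) := by
  have : Fact p.Prime := ⟨CharP.char_is_prime F p⟩
  have h2 := two_ne_zero_of_odd F ho
  have hdim : finrank F (Unit ⊕ (Fin m ⊕ Fin m) → F) = 2 * m + 1 := by
    rw [Module.finrank_fintype_fun_eq_card, Fintype.card_sum, Fintype.card_sum, Fintype.card_fin,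
      Fintype.card_unit]
    omega
  rw [← coe_oddForm]
  have hG : Good (oddForm m F) := good_of_finite (nondeg_oddForm m F h2) (by rw [hdim]; omega)
  exact notC_of_good hG p (Or.inr ⟨h2, by rw [hdim]; omega, by rw [hdim]; exact ⟨m, rfl⟩⟩)

/-- `Ω⁺_{2m}(q)`, `m ≥ 4` -/
theorem notC_pplus (F : Type*) [Field F] [Fintype F] (p : ℕ) [CharP F p] (m : ℕ) (hm : 4 ≤ m) :
    NotC p (Cfsg.POmega F (Cfsg.quadFormPlus m F)) := by
  have : Fact p.Prime := ⟨CharP.char_is_prime F p⟩
  have hdim : finrank F (Fin m ⊕ Fin m → F) = 2 * m := by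
    rw [Module.finrank_fintype_fun_eq_card, Fintype.card_sum, Fintype.card_fin]
    omega
  rw [← coe_plusForm]
  have hG : Good (plusForm m F) := good_of_finite (nondeg_plusForm m F) (by rw [hdim]; omega)
  exact notC_of_good hG p (Or.inl ⟨by rw [hdim]; omega, by rw [hdim]; exact even_two_mul m⟩)

/-- `Ω⁻_{2m}(q)`, `m ≥ 4` -/
theorem notC_pminus (F : Type*) [Field F] [Fintype F] (p : ℕ) [CharP F p] (m : ℕ) (a b : F) (hm : 4 ≤ m)
    (hab : ∀ z₁ z₂ : F, z₁ ^ 2 + a * z₁ * z₂ + b * z₂ ^ 2 = 0 → z₁ = 0 ∧ z₂ = 0) :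
    NotC p (Cfsg.POmega F (Cfsg.quadFormMinus (m - 1) F a b)) := by
  have : Fact p.Prime := ⟨CharP.char_is_prime F p⟩
  have hdim : finrank F ((Fin (m - 1) ⊕ Fin (m - 1)) ⊕ Fin 2 → F) = 2 * m := by
    rw [Module.finrank_fintype_fun_eq_card, Fintype.card_sum, Fintype.card_sum, Fintype.card_fin, Fintype.card_fin]
    omega
  rw [← coe_minusForm]
  have hG : Good (minusForm (m - 1) F a b) := good_of_finite (nondeg_minusForm (m - 1) F a b hab) (by rw [hdim]; omega)
  exact notC_of_good hG p (Or.inl ⟨by rw [hdim]; omega, by rw [hdim]; exact even_two_mul m⟩)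

end Rows

end Cfsg.Agent.H445.AH
end

private theorem dce_9a2d1455c147 : _root_.True := by
  try have : _root_.True := by simp only [_root_.Cfsg.Agent.H445.AH.Dm.eq_1]
  try have : _root_.True := by simp only [_root_.Cfsg.Agent.H445.AH.eg.eq_1]
  try have : _root_.True := by simp only [_root_.Cfsg.Agent.H445.AH.tr2.eq_1]
  try have : _root_.True := by simp only [_root_.Cfsg.Agent.H445.AH.D12.eq_1]
  try have : _root_.True := by simp only [_root_.Cfsg.Agent.H445.AH.Lf.eq_1]
  exact _root_.True.intro
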